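import Cfsg.Agent.Lib.JOneUnique.Facts

/-!
Finite facts on `Z/2 × A₅` used for the weak closure characterisation of the first Janko group.
-/

set_option autoImplicit false
set_option Elab.async false
set_option synthInstance.maxSize 2000
set_option synthInstance.maxHeartbeats 400000

namespace CfsgLib.JOneWeak

open Equiv CfsgLib.JOneOrder CfsgLib.JOneUnique

/-- The automorphism-determining property of the pair `(Klein group, five-cycle)`. -/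
theorem c5_orbit : ∀ y : A5, y ^ 5 = 1 → y ≠ 1 → (va * y) ^ 3 = 1 → (va * vb * y) ^ 2 = 1 →
    y = c5 ∨ y = va * c5 * va ∨ y = vb * c5 * vb ∨ y = va * vb * c5 * (va * vb) := by
  decide +kernel

theorem c5_rel : c5 ^ 5 = 1 ∧ c5 ≠ 1 ∧ (va * c5) ^ 3 = 1 ∧ (va * vb * c5) ^ 2 = 1 := by
  decide +kernel

theorem klein_facts : va * va = 1 ∧ vb * vb = 1 ∧ va * vb = vb * va ∧ va ≠ 1 ∧ vb ≠ 1 ∧ va ≠ vb ∧
    va * vb ≠ 1 ∧ va * vb ≠ va ∧ va * vb ≠ vb := by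
  decide +kernel

theorem word : ∀ a : A5, ∃ i j : Fin 5,
    a = c5 ^ (i : ℕ) * c5 ^ (j : ℕ) ∨ a = c5 ^ (i : ℕ) * va * c5 ^ (j : ℕ) ∨
    a = c5 ^ (i : ℕ) * vb * c5 ^ (j : ℕ) ∨ a = c5 ^ (i : ℕ) * (va * vb) * c5 ^ (j : ℕ) := by
  decide +kernel

theorem invol_conj : ∀ a b : A5, a * a = 1 → a ≠ 1 → b * b = 1 → b ≠ 1 →
    ∃ x : A5, x * a * x⁻¹ = b := by
  decide +kernel

theorem four_pow : ∀ a : A5, a ^ 8 = 1 → a * a = 1 := by decide +kernel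

theorem klein_of_pair : ∀ a b : A5, a * a = 1 → a ≠ 1 → b * b = 1 → b ≠ 1 → a ≠ b → a * b = b * a →
    ∃ x : A5, (x * a * x⁻¹ = va ∧ x * b * x⁻¹ = vb) ∨ (x * a * x⁻¹ = vb ∧ x * b * x⁻¹ = va) := by
  decide +kernel

theorem center_trivial : ∀ a : A5, (∀ b : A5, a * b = b * a) → a = 1 := by
  intro a h
  exact (fun (key : ∀ a : A5, a * c5 = c5 * a ∧ a * va = va * a → a = 1) => key a ⟨h _, h _⟩)
    (by decide +kernel)

theorem three_gen : (rep 2) ^ 3 = 1 ∧ ∃ r : A5, r ^ 3 = 1 ∧ r * va * r⁻¹ = vb ∧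
    r * vb * r⁻¹ = va * vb := by
  decide +kernel

theorem klein_third_list : ∀ p ∈ [1, va, vb, va * vb], ∀ q ∈ [1, va, vb, va * vb],
    ∀ r ∈ [1, va, vb, va * vb], p ≠ 1 → q ≠ 1 → r ≠ 1 → p ≠ q → p ≠ r → q ≠ r → r = p * q := by
  decide +kernel

/-- The third involution of the Klein group. -/
theorem klein_third {p q r : A5} (hp : p = 1 ∨ p = va ∨ p = vb ∨ p = va * vb)
    (hq : q = 1 ∨ q = va ∨ q = vb ∨ q = va * vb) (hr : r = 1 ∨ r = va ∨ r = vb ∨ r = va * vb)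
    (h1 : p ≠ 1) (h2 : q ≠ 1) (h3 : r ≠ 1) (h4 : p ≠ q) (h5 : p ≠ r) (h6 : q ≠ r) : r = p * q :=
  klein_third_list p (by simpa using hp) q (by simpa using hq) r (by simpa using hr) h1 h2 h3 h4 h5 h6

theorem conj_prod_three : ∀ i : Fin 5, rep i ^ 15 = 1 → rep i ≠ 1 →
    ∃ y : A5, rep i * (y * rep i * y⁻¹) ≠ 1 ∧ (rep i * (y * rep i * y⁻¹)) ^ 3 = 1 := by
  decide +kernel

theorem conj_prod_invol : ∀ g : A5, g ^ 3 = 1 → g ≠ 1 →
    ∃ z : A5, g * (z * g * z⁻¹) ≠ 1 ∧ (g * (z * g * z⁻¹)) * (g * (z * g * z⁻¹)) = 1 := by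
  decide +kernel

/-- Four conjugates of a nontrivial element of odd order multiply to `va`. -/
theorem invol_prod (a : A5) (h : a ^ 15 = 1) (h1 : a ≠ 1) :
    ∃ p q r u : A5, p * a * p⁻¹ * (q * a * q⁻¹) * (r * a * r⁻¹ * (u * a * u⁻¹)) = va := by
  obtain ⟨i, x, rfl⟩ := rep_cover a
  have hi : rep i ^ 15 = 1 := by
    rwa [conj_pow, conj_eq_one_iff] at h
  obtain ⟨y, hy1, hy2⟩ := conj_prod_three i hi (fun e => h1 (by rw [e]; group))
  obtain ⟨z, hz1, hz2⟩ := conj_prod_invol _ hy2 hy1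
  obtain ⟨w, hw⟩ := invol_conj _ va hz2 hz1 klein_facts.1 klein_facts.2.2.2.1
  exact ⟨w * x⁻¹, w * y * x⁻¹, w * z * x⁻¹, w * z * y * x⁻¹, by rw [← hw]; group⟩

end CfsgLib.JOneWeak
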