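import Cfsg.Agent.Lib.JOneWeak.Alt
import Cfsg.Agent.Lib.Transfer.Sylow
import Cfsg.Agent.Lib.Invol.Dihedral

/-!
An involution whose conjugates in its centralizer generate `Z/2 × A₅`: the group `W`, its
derived part and its Sylow 2-subgroups.
-/

set_option autoImplicit false
set_option linter.style.haveILetI false

namespace CfsgLib.JOneWeak

open CfsgLib.JOneOrder CfsgLib.JOneUnique

variable {G : Type*} [Group G]

/-- The conjugates of `t` commuting with `t`. -/
def Wset (t : G) : Set G := {x | ∃ g : G, x = g * t * g⁻¹ ∧ x * t = t * x}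

/-- The subgroup they generate. -/
def W (t : G) : Subgroup G := Subgroup.closure (Wset t)

/-- The part generated by the elements killed by fifteen. -/
def L (t : G) : Subgroup G := Subgroup.closure {x | x ∈ W t ∧ x ^ 15 = 1}

/-- The centralizer of `W`. -/
def D (t : G) : Subgroup G := Subgroup.centralizer (W t : Set G)

/-- The hypothesis. -/
structure Hyp (t : G) : Prop where
  ord : orderOf t = 2
  syl : ∃ S : Sylow 2 G, t ∈ (S : Subgroup G) ∧ ∀ s ∈ (S : Subgroup G), s * t = t * s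
  iso : Nonempty (↥(W t) ≃* Z2 × A5)

variable {t : G}

theorem z2_facts : (∀ z : Z2, z = 1 ∨ z = zb) ∧ zb * zb = 1 ∧ zb ≠ 1 ∧ (∀ z : Z2, z ^ 15 = 1 → z = 1) ∧
    (∀ z : Z2, z * z = 1) := by
  decide

theorem conj_orderOf {x : G} (g : G) : orderOf (g * x * g⁻¹) = orderOf x :=
  (MulAut.conj g).orderOf_eq x

theorem self_mem_W (t : G) : t ∈ W t := Subgroup.subset_closure ⟨1, by group, rfl⟩

theorem conj_mem_W {g : G} (h : Commute (g * t * g⁻¹) t) : g * t * g⁻¹ ∈ W t :=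
  Subgroup.subset_closure ⟨g, rfl, h.eq⟩

theorem W_le_centralizer (t : G) : W t ≤ Subgroup.centralizer ({t} : Set G) := by
  refine (Subgroup.closure_le _).mpr ?_
  rintro x ⟨g, -, hx⟩
  exact Subgroup.mem_centralizer_singleton_iff.mpr hx

theorem commute_of_mem_W {x : G} (hx : x ∈ W t) : Commute x t :=
  Subgroup.mem_centralizer_singleton_iff.mp (W_le_centralizer t hx)

/-- Conjugation moves `W`. -/
theorem W_map (t g : G) : (W t).map (MulAut.conj g).toMonoidHom = W (g * t * g⁻¹) := by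
  rw [W, W, MonoidHom.map_closure]
  congr 1
  ext y
  constructor
  · rintro ⟨x, ⟨k, rfl, hk⟩, rfl⟩
    refine ⟨g * k * g⁻¹, by simp [MulAut.conj_apply, mul_assoc], ?_⟩
    have := congrArg (MulAut.conj g) hk
    simpa [MulAut.conj_apply, map_mul, mul_assoc] using this
  · rintro ⟨k, rfl, hk⟩
    refine ⟨g⁻¹ * (k * (g * t * g⁻¹) * k⁻¹) * g, ⟨g⁻¹ * k * g, by group, ?_⟩, by
      simp [MulAut.conj_apply, mul_assoc]⟩
    have := congrArg (MulAut.conj g⁻¹) hk
    simpa [MulAut.conj_apply, map_mul, mul_assoc] using this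

theorem L_map (t g : G) : (L t).map (MulAut.conj g).toMonoidHom = L (g * t * g⁻¹) := by
  rw [L, L, MonoidHom.map_closure, ← W_map]
  congr 1
  ext y
  constructor
  · rintro ⟨x, ⟨hx, h15⟩, rfl⟩
    exact ⟨⟨x, hx, rfl⟩, by rw [← map_pow, h15, map_one]⟩
  · rintro ⟨⟨x, hx, rfl⟩, h15⟩
    refine ⟨x, ⟨hx, (MulAut.conj g).injective ?_⟩, rfl⟩
    rw [map_pow, map_one]; exact h15

theorem conj_mem_map {H : Subgroup G} {g x : G} (hx : x ∈ H) :
    g * x * g⁻¹ ∈ H.map (MulAut.conj g).toMonoidHom := ⟨x, hx, rfl⟩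

theorem W_conj {t g x : G} (hx : x ∈ W t) : g * x * g⁻¹ ∈ W (g * t * g⁻¹) :=
  W_map t g ▸ conj_mem_map hx

theorem L_conj {t g x : G} (hx : x ∈ L t) : g * x * g⁻¹ ∈ L (g * t * g⁻¹) :=
  L_map t g ▸ conj_mem_map hx

theorem conj_fix {c : G} (hc : Commute c t) : c * t * c⁻¹ = t := by
  rw [hc.eq, mul_inv_cancel_right]

theorem W_invariant {c x : G} (hc : Commute c t) (hx : x ∈ W t) : c * x * c⁻¹ ∈ W t := by
  have := W_conj (g := c) hx
  rwa [conj_fix hc] at this

theorem L_invariant {c x : G} (hc : Commute c t) (hx : x ∈ L t) : c * x * c⁻¹ ∈ L t := by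
  have := L_conj (g := c) hx
  rwa [conj_fix hc] at this

theorem D_invariant {c d : G} (hc : Commute c t) (hd : d ∈ D t) : c * d * c⁻¹ ∈ D t := by
  rw [D, Subgroup.mem_centralizer_iff] at hd ⊢
  intro x hx
  have h1 := hd _ (W_invariant (hc.inv_left) hx)
  rw [inv_inv] at h1
  calc x * (c * d * c⁻¹) = c * (c⁻¹ * x * c * d) * c⁻¹ := by group
    _ = c * (d * (c⁻¹ * x * c)) * c⁻¹ := by rw [h1]
    _ = c * d * c⁻¹ * x := by group

theorem Hyp.conj (h : Hyp t) (g : G) : Hyp (g * t * g⁻¹) := by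
  refine ⟨(conj_orderOf g).trans h.ord, ?_, ?_⟩
  · obtain ⟨S, htS, hS⟩ := h.syl
    refine ⟨g • S, ?_, ?_⟩
    · exact ⟨t, htS, rfl⟩
    · rintro _ ⟨s, hs, rfl⟩
      have := congrArg (MulAut.conj g) (hS s hs)
      simpa [MulAut.conj_apply, map_mul, mul_assoc] using this
  · obtain ⟨e⟩ := h.iso
    exact ⟨((MulEquiv.subgroupCongr (W_map t g)).symm.trans
      ((W t).equivMapOfInjective _ (MulAut.conj g).injective).symm).trans e⟩

namespace Hyp

variable (h : Hyp t)
include h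

theorem t_sq : t * t = 1 := Invol.mul_self_of_orderOf_two h.ord

theorem t_ne : t ≠ 1 := Invol.ne_one_of_orderOf_two h.ord

/-- The embedding of `Z/2 × A₅`. -/
noncomputable def emb : Z2 × A5 →* G :=
  (W t).subtype.comp h.iso.some.symm.toMonoidHom

theorem emb_injective : Function.Injective h.emb :=
  (W t).subtype_injective.comp h.iso.some.symm.injective

theorem emb_mem (q : Z2 × A5) : h.emb q ∈ W t := (h.iso.some.symm q).2

theorem exists_emb {x : G} (hx : x ∈ W t) : ∃ q, h.emb q = x :=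
  ⟨h.iso.some ⟨x, hx⟩, by simp [emb]⟩

theorem emb_zb : h.emb (zb, 1) = t := by
  obtain ⟨q, hq⟩ := h.exists_emb (self_mem_W t)
  have e := JOneOrder.Hyp.center_pairs q (h.emb_injective (by rw [map_mul, hq, h.t_sq, map_one]))
    (fun e => h.t_ne (by rw [← hq, e, map_one])) (fun r => h.emb_injective (by
      rw [map_mul, map_mul, hq]; exact (commute_of_mem_W (h.emb_mem r)).symm.eq))
  rw [← e, hq]

theorem emb_mem_L (a : A5) : h.emb (1, a) ∈ L t := by
  have hgen : ∀ b : A5, b ^ 15 = 1 → h.emb (1, b) ∈ L t := fun b hb =>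
    Subgroup.subset_closure ⟨h.emb_mem _, by
      rw [← map_pow, show ((1, b) : Z2 × A5) ^ 15 = 1 from Prod.ext (one_pow _) hb, map_one]⟩
  have hH : ∀ b : A5, b ∈ ((L t).comap (h.emb.comp (MonoidHom.inr Z2 A5))) ↔ h.emb (1, b) ∈ L t :=
    fun b => Iff.rfl
  have hn : ∀ b : A5, b * b = 1 → h.emb (1, b) ∈ L t := by
    intro b hb
    obtain ⟨x, y, hx, hy, e⟩ := (show ∀ b : A5, b * b = 1 → ∃ x y : A5, x ^ 15 = 1 ∧ y ^ 15 = 1 ∧ b = x * y
      by decide +kernel) b hb
    rw [e, ← hH]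
    exact mul_mem ((hH x).mpr (hgen x hx)) ((hH y).mpr (hgen y hy))
  rcases (show ∀ a : A5, a ^ 15 = 1 ∨ a * a = 1 by decide +kernel) a with hi | hi
  · exact hgen a hi
  · exact hn a hi

theorem mem_L_iff {x : G} : x ∈ L t ↔ ∃ a : A5, h.emb (1, a) = x := by
  refine ⟨fun hx => ?_, fun ⟨a, ha⟩ => ha ▸ h.emb_mem_L a⟩
  have hle : L t ≤ (h.emb.comp (MonoidHom.inr Z2 A5)).range := by
    refine (Subgroup.closure_le _).mpr ?_
    rintro y ⟨hy, h15⟩
    obtain ⟨⟨z, a⟩, rfl⟩ := h.exists_emb hy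
    have h1 : ((z, a) : Z2 × A5) ^ 15 = 1 := h.emb_injective (by rw [map_pow, h15, map_one])
    obtain rfl := z2_facts.2.2.2.1 z (congrArg Prod.fst h1)
    exact ⟨a, rfl⟩
  exact hle hx

theorem t_mul_emb (a : A5) : t * h.emb (1, a) = h.emb (zb, a) := by
  have e := h.emb_zb
  calc t * h.emb (1, a) = h.emb (zb, 1) * h.emb (1, a) := by rw [e]
    _ = h.emb (zb, a) := by rw [← map_mul, Prod.mk_mul_mk, mul_one, one_mul]

theorem emb_cases {x : G} (hx : x ∈ W t) :
    ∃ a : A5, h.emb (1, a) = x ∨ t * h.emb (1, a) = x := by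
  obtain ⟨⟨z, a⟩, rfl⟩ := h.exists_emb hx
  refine ⟨a, ?_⟩
  rcases z2_facts.1 z with rfl | rfl
  · exact Or.inl rfl
  · refine Or.inr ?_
    exact (h.t_mul_emb a).trans rfl

theorem L_le_W : L t ≤ W t := fun _ hx => by
  obtain ⟨a, rfl⟩ := h.mem_L_iff.mp hx
  exact h.emb_mem _

theorem t_notMem_L : t ∉ L t := fun ht => by
  obtain ⟨a, ha⟩ := h.mem_L_iff.mp ht
  have e := h.emb_injective (ha.trans h.emb_zb.symm)
  exact z2_facts.2.2.1 (congrArg Prod.fst e).symm

theorem mem_W_sup {x : G} (hx : x ∈ W t) : x ∈ L t ∨ t * x ∈ L t := by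
  obtain ⟨a, ha | ha⟩ := h.emb_cases hx
  · exact Or.inl (h.mem_L_iff.mpr ⟨a, ha⟩)
  · exact Or.inr (h.mem_L_iff.mpr ⟨a, by rw [← ha, ← mul_assoc, h.t_sq, one_mul]⟩)

theorem W_le {H : Subgroup G} (ht : t ∈ H) (hL : L t ≤ H) : W t ≤ H := fun x hx => by
  rcases h.mem_W_sup hx with hx | hx
  · exact hL hx
  · have := mul_mem ht (hL hx)
    rwa [← mul_assoc, h.t_sq, one_mul] at this

theorem mem_D {d : G} (hdt : Commute d t) (hdL : ∀ l ∈ L t, Commute d l) : d ∈ D t := by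
  refine Subgroup.mem_centralizer_iff.mpr fun x hx => ?_
  have := h.W_le (H := Subgroup.centralizer ({d} : Set G))
    (Subgroup.mem_centralizer_singleton_iff.mpr hdt.symm.eq)
    (fun l hl => Subgroup.mem_centralizer_singleton_iff.mpr (hdL l hl).symm.eq) hx
  exact Subgroup.mem_centralizer_singleton_iff.mp this

theorem eq_one_or_t_of_center {x : G} (hx : x ∈ W t) (hc : ∀ y ∈ W t, Commute x y) :
    x = 1 ∨ x = t := by
  obtain ⟨⟨z, a⟩, rfl⟩ := h.exists_emb hx
  obtain rfl : a = 1 := center_trivial a fun b => by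
    have := h.emb_injective (show h.emb ((z, a) * (1, b)) = h.emb ((1, b) * (z, a)) by
      rw [map_mul, map_mul]; exact (hc _ (h.emb_mem _)).eq)
    exact congrArg Prod.snd this
  rcases z2_facts.1 z with rfl | rfl
  · exact Or.inl (map_one _)
  · exact Or.inr h.emb_zb

theorem D_inf_L {x : G} (hD : x ∈ D t) (hL : x ∈ L t) : x = 1 := by
  rcases h.eq_one_or_t_of_center (h.L_le_W hL)
      (fun y hy => (Subgroup.mem_centralizer_iff.mp hD y hy).symm) with e | e
  · exact e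
  · exact absurd (e ▸ hL) h.t_notMem_L

theorem card_W : Nat.card (W t) = 120 := by
  rw [Nat.card_congr h.iso.some.toEquiv, Nat.card_prod, card_A5, Nat.card_eq_fintype_card]
  rfl

theorem W_finite : Finite (W t) := Finite.of_equiv _ h.iso.some.symm.toEquiv

/-- A subgroup of order eight of `W` through `t`. -/
theorem eight_coords {Q : Subgroup G} (hQW : Q ≤ W t) (hQ : Nat.card Q = 8) (htQ : t ∈ Q) :
    ∃ x : A5, (∀ q : G, q ∈ Q ↔ ∃ a : A5, (a = 1 ∨ a = va ∨ a = vb ∨ a = va * vb) ∧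
      (q = h.emb (1, x⁻¹ * a * x) ∨ q = t * h.emb (1, x⁻¹ * a * x))) := by
  haveI := h.W_finite
  set A : Subgroup A5 := Q.comap (h.emb.comp (MonoidHom.inr Z2 A5)) with hA
  have hmemA : ∀ a, a ∈ A ↔ h.emb (1, a) ∈ Q := fun a => Iff.rfl
  have hQA : ∀ q : G, q ∈ Q ↔ ∃ a ∈ A, q = h.emb (1, a) ∨ q = t * h.emb (1, a) := by
    intro q
    constructor
    · intro hq
      obtain ⟨a, ha | ha⟩ := h.emb_cases (hQW hq)
      · exact ⟨a, (hmemA a).mpr (ha ▸ hq), Or.inl ha.symm⟩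
      · refine ⟨a, (hmemA a).mpr ?_, Or.inr ha.symm⟩
        have := mul_mem htQ hq
        rwa [← ha, ← mul_assoc, h.t_sq, one_mul] at this
    · rintro ⟨a, ha, rfl | rfl⟩
      · exact ha
      · exact mul_mem htQ ha
  have hinj : Function.Injective fun a : A5 => h.emb (1, a) := fun a b e =>
    congrArg Prod.snd (h.emb_injective e)
  have hAcard : Nat.card A = 4 := by
    haveI : Finite Q := Nat.finite_of_card_ne_zero (by omega)
    let f : Z2 × A → Q := fun p => ⟨h.emb (p.1, p.2.1), by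
      rcases z2_facts.1 p.1 with e | e <;> rw [e]
      · exact p.2.2
      · rw [show ((zb, (p.2 : A5)) : Z2 × A5) = (zb, 1) * (1, (p.2 : A5)) by simp, map_mul, h.emb_zb]
        exact mul_mem htQ p.2.2⟩
    have hf : Function.Bijective f := by
      refine ⟨fun p q e => ?_, fun ⟨q, hq⟩ => ?_⟩
      · have e' : h.emb (p.1, p.2.1) = h.emb (q.1, q.2.1) := congrArg (fun z : Q => (z : G)) e
        have := h.emb_injective e'
        exact Prod.ext (congrArg Prod.fst this :) (Subtype.ext (congrArg Prod.snd this :))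
      · obtain ⟨a, ha, e | e⟩ := (hQA q).mp hq
        · exact ⟨(1, ⟨a, ha⟩), Subtype.ext e.symm⟩
        · refine ⟨(zb, ⟨a, ha⟩), Subtype.ext ?_⟩
          show h.emb (zb, a) = q
          exact (h.t_mul_emb a).symm.trans e.symm
    have := Nat.card_eq_of_bijective f hf
    rw [Nat.card_prod, hQ, show Nat.card Z2 = 2 by rw [Nat.card_eq_fintype_card]; rfl] at this
    omega
  have hsq : ∀ a ∈ A, a * a = 1 := by
    intro a ha
    have h4 : (⟨a, ha⟩ : A) ^ 4 = 1 := by rw [← hAcard]; exact pow_card_eq_one'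
    have h4' : a ^ 4 = 1 := congrArg Subtype.val h4
    exact four_pow a (by rw [show (8 : ℕ) = 4 * 2 by rfl, pow_mul, h4', one_pow])
  obtain ⟨⟨a, ha⟩, ha1⟩ : ∃ a : A, a ≠ 1 := by
    haveI : Nontrivial A := Finite.one_lt_card_iff_nontrivial.mp (by omega)
    exact exists_ne 1
  obtain ⟨b, hb, hb1, hba⟩ : ∃ b ∈ A, b ≠ 1 ∧ b ≠ a := by
    by_contra hcon
    push Not at hcon
    have : Nat.card A ≤ Nat.card ({1, a} : Set A5) := by
      refine Nat.card_mono (Set.toFinite _) (fun x hx => ?_)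
      by_cases h1 : x = 1
      · exact Or.inl h1
      · exact Or.inr (hcon x hx h1)
    have h2 : Nat.card ({1, a} : Set A5) ≤ 2 := by
      rw [Nat.card_coe_set_eq]
      exact (Set.ncard_insert_le _ _).trans (by simp)
    omega
  have ha1' : a ≠ 1 := fun e => ha1 (Subtype.ext e)
  have hab : a * b = b * a := by
    have h1 := hsq _ (mul_mem ha hb)
    calc a * b = (a * b)⁻¹ := (inv_eq_of_mul_eq_one_right h1).symm
      _ = b * a := by rw [mul_inv_rev, inv_eq_of_mul_eq_one_right (hsq a ha),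
        inv_eq_of_mul_eq_one_right (hsq b hb)]
  obtain ⟨x, hx⟩ := klein_of_pair a b (hsq a ha) ha1' (hsq b hb) hb1 (Ne.symm hba) hab
  obtain ⟨-, -, kc, k1, k2, k3, k4, k5, k6⟩ := klein_facts
  have hmem : x⁻¹ * va * x ∈ A ∧ x⁻¹ * vb * x ∈ A := by
    rcases hx with ⟨e1, e2⟩ | ⟨e1, e2⟩
    · refine ⟨?_, ?_⟩
      · rw [← e1]; convert ha using 1; group
      · rw [← e2]; convert hb using 1; group
    · refine ⟨?_, ?_⟩
      · rw [← e2]; convert hb using 1; group
      · rw [← e1]; convert ha using 1; group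
  have hmem3 : x⁻¹ * (va * vb) * x ∈ A := by
    have := mul_mem hmem.1 hmem.2
    rwa [show x⁻¹ * va * x * (x⁻¹ * vb * x) = x⁻¹ * (va * vb) * x by group] at this
  have hset : ∀ c : A5, c ∈ A ↔ (c = 1 ∨ c = x⁻¹ * va * x ∨ c = x⁻¹ * vb * x ∨ c = x⁻¹ * (va * vb) * x) := by
    have hsub : ({1, x⁻¹ * va * x, x⁻¹ * vb * x, x⁻¹ * (va * vb) * x} : Set A5) ⊆ (A : Set A5) := by
      rintro c (rfl | rfl | rfl | rfl)
      · exact one_mem A
      · exact hmem.1
      · exact hmem.2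
      · exact hmem3
    have hne : ∀ p q : A5, p ≠ q → x⁻¹ * p * x ≠ x⁻¹ * q * x := fun p q hpq e =>
      hpq (mul_left_cancel (mul_right_cancel e))
    have hne1 : ∀ p : A5, p ≠ 1 → (1 : A5) ≠ x⁻¹ * p * x := fun p hp e => by
      exact hne p 1 hp (by rw [← e]; group)
    have hc : ({1, x⁻¹ * va * x, x⁻¹ * vb * x, x⁻¹ * (va * vb) * x} : Set A5).ncard = 4 := by
      rw [Set.ncard_insert_of_notMem, Set.ncard_insert_of_notMem, Set.ncard_pair]
      · exact hne _ _ k6.symm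
      · simp [hne _ _ k3, hne _ _ k5.symm]
      · simp [hne1 _ k1, hne1 _ k2, hne1 _ k4]
    have heq := Set.eq_of_subset_of_ncard_le hsub
      (by rw [hc, ← Nat.card_coe_set_eq]; exact le_of_eq hAcard) (Set.toFinite _)
    intro c
    rw [← SetLike.mem_coe, ← heq]
    rfl
  refine ⟨x, fun q => ⟨fun hq => ?_, ?_⟩⟩
  · obtain ⟨c, hc, e⟩ := (hQA q).mp hq
    rcases (hset c).mp hc with rfl | rfl | rfl | rfl
    · exact ⟨1, Or.inl rfl, by simpa using e⟩
    · exact ⟨va, Or.inr (Or.inl rfl), e⟩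
    · exact ⟨vb, Or.inr (Or.inr (Or.inl rfl)), e⟩
    · exact ⟨va * vb, Or.inr (Or.inr (Or.inr rfl)), e⟩
  · rintro ⟨c, hc, e⟩
    refine (hQA q).mpr ⟨x⁻¹ * c * x, (hset _).mpr ?_, e⟩
    rcases hc with rfl | rfl | rfl | rfl
    · exact Or.inl (by group)
    · exact Or.inr (Or.inl rfl)
    · exact Or.inr (Or.inr (Or.inl rfl))
    · exact Or.inr (Or.inr (Or.inr rfl))

end Hyp

end CfsgLib.JOneWeak
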