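import Cfsg.Agent.Lib.JOneWeak.Structure
import Mathlib.Algebra.BigOperators.Group.Finset.Basic

/-!
`C(V) = R × V` with `R` centralised by `Δ`, and the inheritance of the hypothesis to subgroups.
-/

set_option autoImplicit false
set_option linter.style.haveILetI false
set_option linter.unusedSectionVars false

namespace CfsgLib.JOneWeak

open CfsgLib.JOneOrder

variable {G : Type*} [Group G] [Finite G]

/-- The conjugates of `t` under a subgroup generate this subgroup. -/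
def cls (t : G) (H : Subgroup G) : Subgroup G :=
  Subgroup.closure {y | ∃ k ∈ H, k * t * k⁻¹ = y}

/-- The conditions making the hypothesis pass to a subgroup. -/
def Good (t : G) (S : Sylow 2 G) (H : Subgroup G) : Prop :=
  Vs t S ≤ H ∧ ∀ v ∈ Vs t S, v ≠ 1 → L v ≤ H

namespace Sc

variable {t : G} {S : Sylow 2 G} (c : Sc t S)
include c

theorem hyp_at {v : G} (hv : v ∈ Vs t S) (hv1 : v ≠ 1) : Hyp v := by
  obtain ⟨g, rfl⟩ := isConj_iff.mp (c.conj_of_mem hv hv1)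
  exact c.hyp.conj g

theorem sc_at {v : G} (hv : v ∈ Vs t S) (hv1 : v ≠ 1) : Sc v S :=
  ⟨c.hyp_at hv hv1, hv.1, fun _ hs =>
    (Subgroup.mem_centralizer_iff.mp (c.S_le_Cs hs) v hv).symm⟩

theorem V_le_Cs : Vs t S ≤ Cs t S := fun _ hu =>
  Subgroup.mem_centralizer_iff.mpr fun _ hv => c.V_comm hv hu

theorem fixed_eq_one {v : G} (hv : v ∈ Vs t S)
    (hfix : ∀ d ∈ Del t S, d * v * d⁻¹ = v) : v = 1 := by
  by_contra h1
  obtain ⟨d, hd, rfl⟩ := c.Del_transitive hv h1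
  have hdt : d * t * d⁻¹ = t := mul_left_cancel (mul_right_cancel (hfix d hd))
  obtain ⟨H, hH, -, -, hHt, hHfix⟩ := c.exists_three
  -- everything is then fixed
  have hall : ∀ y ∈ Vs t S, y ≠ 1 → y = t := by
    intro y hy hy1
    obtain ⟨e, he, rfl⟩ := c.Del_transitive hy hy1
    have := hfix e he
    rwa [hdt] at this
  have hle : Vs t S ≤ Subgroup.zpowers t := fun y hy => by
    rcases eq_or_ne y 1 with rfl | hy1
    · exact one_mem _
    · rw [hall y hy hy1]; exact Subgroup.mem_zpowers t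
  have := Subgroup.card_le_of_le hle
  rw [c.card_V, Nat.card_zpowers, c.hyp.ord] at this
  omega

/-- `C(V)' ∩ V = 1`, in the form needed. -/
theorem commutator_mem_D {z z' : G} (hz : z ∈ Cs t S) (hz' : z' ∈ Cs t S) {v : G}
    (hv : v ∈ Vs t S) (hv1 : v ≠ 1) : z * z' * z⁻¹ * z'⁻¹ ∈ D v := by
  obtain ⟨a, ha, -, hza⟩ := c.Cs_decomp hz hv hv1
  obtain ⟨b, hb, -, hzb⟩ := c.Cs_decomp hz' hv hv1
  have ha' : ∀ y ∈ Cs t S, Commute a y := fun y hy => Subgroup.mem_centralizer_iff.mp hy a ha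
  have hb' : ∀ y ∈ Cs t S, Commute b y := fun y hy => Subgroup.mem_centralizer_iff.mp hy b hb
  have e : z * z' * z⁻¹ * z'⁻¹ = (z * a) * (z' * b) * (z * a)⁻¹ * (z' * b)⁻¹ := by
    have h1 : (z * a) * (z' * b) * (z * a)⁻¹ = z * (z' * b) * z⁻¹ := by
      rw [mul_assoc z a, (ha' _ ((Cs t S).mul_mem hz' (c.V_le_Cs hb))).eq]; group
    rw [h1, mul_inv_rev, show z * (z' * b) * z⁻¹ * (b⁻¹ * z'⁻¹) = z * z' * (b * z⁻¹) * (b⁻¹ * z'⁻¹)
      by group, (hb' _ ((Cs t S).inv_mem hz)).eq]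
    group
  rw [e]
  exact (D v).mul_mem ((D v).mul_mem ((D v).mul_mem hza hzb) ((D v).inv_mem hza)) ((D v).inv_mem hzb)

theorem eq_one_of_mem_D_all {z : G} (hz : z ∈ Vs t S) (hD : ∀ v ∈ Vs t S, v ≠ 1 → z ∈ D v) :
    z = 1 := by
  by_contra h1
  obtain ⟨v, hv, hv1, hvz⟩ : ∃ v ∈ Vs t S, v ≠ 1 ∧ v ≠ z := by
    by_contra hcon
    push Not at hcon
    have hle : Vs t S ≤ Subgroup.zpowers z := fun y hy => by
      rcases eq_or_ne y 1 with rfl | hy1
      · exact one_mem _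
      · rw [hcon y hy hy1]; exact Subgroup.mem_zpowers z
    have := Subgroup.card_le_of_le hle
    rw [c.card_V, Nat.card_zpowers, c.V_orderOf hz h1] at this
    omega
  rcases (c.hyp_at hv hv1).eq_one_or_t_of_center (c.V_le_W hv hv1 hz)
      (fun y hy => (Subgroup.mem_centralizer_iff.mp (hD v hv hv1) y hy).symm) with e | e
  · exact h1 e
  · exact hvz e.symm

/-- The defect of `δ` on `z` lies in `V`. -/
theorem defect_mem {d : G} (hd : d ∈ Del t S) :
    ∀ z ∈ Cs t S, z⁻¹ * (d * z * d⁻¹) ∈ Vs t S := by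
  have hNs : ∀ {x}, x ∈ Del t S → x ∈ Ns t S := fun hx => c.Del_le_Ns hx
  induction hd using Subgroup.closure_induction with
  | mem h hh =>
    obtain ⟨v, hv, hv1, hL, -, hN⟩ := hh
    intro z hz
    obtain ⟨a, ha, -, hza⟩ := c.Cs_decomp hz hv hv1
    have hcomm : h * (z * a) * h⁻¹ = z * a :=
      conj_fix (Subgroup.mem_centralizer_iff.mp hza h ((c.hyp_at hv hv1).L_le_W hL))
    have e : z⁻¹ * (h * z * h⁻¹) = a * (h * a * h⁻¹)⁻¹ := by
      rw [show h * z * h⁻¹ = h * (z * a) * h⁻¹ * (h * a * h⁻¹)⁻¹ by group, hcomm]; group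
    rw [e]
    exact (Vs t S).mul_mem ha ((Vs t S).inv_mem (c.Ns_conj hN ha))
  | one => intro z hz; simp
  | mul x y hx hy ihx ihy =>
    intro z hz
    have h1 := ihy z hz
    have e : z⁻¹ * (x * y * z * (x * y)⁻¹) =
        (z⁻¹ * (x * z * x⁻¹)) * (x * (z⁻¹ * (y * z * y⁻¹)) * x⁻¹) := by group
    rw [e]
    exact (Vs t S).mul_mem (ihx z hz) (c.Ns_conj (hNs hx) h1)
  | inv x hx ih =>
    intro z hz
    have e : z⁻¹ * (x⁻¹ * z * x⁻¹⁻¹) = x⁻¹ * (z⁻¹ * (x * z * x⁻¹))⁻¹ * x⁻¹⁻¹ := by group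
    rw [e]
    exact c.Ns_conj ((Ns t S).inv_mem (hNs hx)) ((Vs t S).inv_mem (ih z hz))

theorem defect_central {d z : G} (hd : d ∈ Del t S) (hdC : d ∈ Cs t S) (hz : z ∈ Cs t S) :
    d * z * d⁻¹ = z := by
  have h1 := c.defect_mem hd z hz
  have h2 : z⁻¹ * (d * z * d⁻¹) = 1 := c.eq_one_of_mem_D_all h1 fun v hv hv1 => by
    have := c.commutator_mem_D ((Cs t S).inv_mem hz) hdC hv hv1
    rw [inv_inv] at this
    convert this using 1; group
  calc d * z * d⁻¹ = z * (z⁻¹ * (d * z * d⁻¹)) := by group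
    _ = z := by rw [h2, mul_one]

/-- `C(V) = R · V`. -/
theorem decomp {z : G} (hz : z ∈ Cs t S) : ∃ v ∈ Vs t S, z * v ∈ Rs t S := by
  classical
  haveI : Fact (Nat.Prime 2) := ⟨Nat.prime_two⟩
  set K : Subgroup (Del t S) := (Cs t S).subgroupOf (Del t S) with hK
  letI : CommGroup (Vs t S) :=
    { (inferInstance : Group (Vs t S)) with mul_comm := fun a b => Subtype.ext (c.V_comm a.2 b.2).eq }
  let f : Del t S → Vs t S := fun d => ⟨z⁻¹ * ((d : G) * z * (d : G)⁻¹), c.defect_mem d.2 z hz⟩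
  have hfK : ∀ (d : Del t S) (k : Del t S), k ∈ K → f (d * k) = f d := by
    intro d k hk
    apply Subtype.ext
    show z⁻¹ * ((d : G) * k * z * ((d : G) * k)⁻¹) = z⁻¹ * ((d : G) * z * (d : G)⁻¹)
    rw [show (d : G) * k * z * ((d : G) * k)⁻¹ = d * (k * z * (k : G)⁻¹) * (d : G)⁻¹ by group,
      c.defect_central k.2 hk hz]
  haveI : Fintype (Del t S ⧸ K) := Fintype.ofFinite _
  let g : Del t S ⧸ K → Vs t S := fun q => f q.out
  have hg : ∀ d : Del t S, g (QuotientGroup.mk d) = f d := by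
    intro d
    obtain ⟨k, hk⟩ := QuotientGroup.mk_out_eq_mul K d
    show f _ = _
    rw [hk]; exact hfK d k k.2
  set v : Vs t S := ∏ q, g q with hv
  have hodd : Odd (Fintype.card (Del t S ⧸ K)) := by
    rw [← Nat.card_eq_fintype_card, ← Subgroup.index_eq_card, Nat.odd_iff]
    have h1 : K.index ∣ (Cs t S).relIndex (Ns t S) := by
      have hn : ((Cs t S).subgroupOf (Ns t S)).Normal :=
        ⟨fun a ha n => c.Cs_invariant n.2 ha⟩
      have h := Subgroup.relIndex_dvd_index_of_normal ((Cs t S).subgroupOf (Ns t S))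
        ((Del t S).subgroupOf (Ns t S))
      rwa [Subgroup.relIndex_subgroupOf c.Del_le_Ns] at h
    have h2 : ¬ 2 ∣ (Cs t S).relIndex (Ns t S) := fun hd => S.not_dvd_index
      ((hd.trans (Subgroup.relIndex_dvd_index_of_le c.Cs_le_Ns)).trans
        (Subgroup.index_dvd_of_le c.S_le_Cs))
    have h3 : ¬ 2 ∣ K.index := fun h => h2 (h.trans h1)
    omega
  refine ⟨v, v.2, (Cs t S).mul_mem hz (c.V_le_Cs v.2), ?_⟩
  refine Subgroup.mem_centralizer_iff.mpr fun m hm => ?_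
  set m' : Del t S := ⟨m, hm⟩
  -- the cocycle relation
  have hcoc : ∀ q, g (m' • q) = f m' *
      ⟨m * (g q : G) * m⁻¹, c.Ns_conj (c.Del_le_Ns hm) (g q).2⟩ := by
    intro q
    induction q using QuotientGroup.induction_on with
    | _ d =>
      rw [MulAction.Quotient.smul_mk, smul_eq_mul]
      apply Subtype.ext
      show (g _ : G) = _ * (m * (g _ : G) * m⁻¹)
      rw [hg, hg]
      show z⁻¹ * (m * d * z * (m * d)⁻¹) = z⁻¹ * (m * z * m⁻¹) * (m * (z⁻¹ * ((d : G) * z * (d : G)⁻¹)) * m⁻¹)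
      group
  let cm : Vs t S →* Vs t S :=
    { toFun := fun u => ⟨m * u * m⁻¹, c.Ns_conj (c.Del_le_Ns hm) u.2⟩
      map_one' := Subtype.ext (show m * ((1 : Vs t S) : G) * m⁻¹ = ((1 : Vs t S) : G) by simp)
      map_mul' := fun a b => Subtype.ext (show m * ((a : G) * b) * m⁻¹ = m * a * m⁻¹ * (m * b * m⁻¹) by
        group) }
  have hv' : v = f m' * cm v := by
    calc v = ∏ q, g (m' • q) := (Fintype.prod_bijective (fun q => m' • q) (MulAction.bijective m') _ _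
          (fun q => rfl)).symm
      _ = ∏ q, (f m' * cm (g q)) := Finset.prod_congr rfl fun q _ => hcoc q
      _ = (f m') ^ Fintype.card (Del t S ⧸ K) * cm v := by
          rw [Finset.prod_mul_distrib, Finset.prod_const, map_prod, Finset.card_univ]
      _ = f m' * cm v := by
          obtain ⟨k, hk⟩ := hodd
          have hsq : f m' ^ 2 = 1 := Subtype.ext (by
            rw [Subgroup.coe_pow, pow_two]; exact c.V_sq (f m').2)
          rw [hk, pow_succ, pow_mul, hsq, one_pow, one_mul]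
  have e : (v : G) = z⁻¹ * (m * z * m⁻¹) * (m * v * m⁻¹) := congrArg Subtype.val hv'
  calc m * (z * v) = z * (z⁻¹ * (m * z * m⁻¹) * (m * v * m⁻¹)) * m := by group
    _ = z * v * m := by rw [← e]

theorem R_le_Cs : Rs t S ≤ Cs t S := inf_le_left

theorem R_inf_V {z : G} (hR : z ∈ Rs t S) (hV : z ∈ Vs t S) : z = 1 :=
  c.fixed_eq_one hV fun d hd => conj_fix
    (Subgroup.mem_centralizer_iff.mp hR.2 d hd)

theorem R_invariant {n r : G} (hn : n ∈ Ns t S) (hr : r ∈ Rs t S) : n * r * n⁻¹ ∈ Rs t S := by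
  refine ⟨c.Cs_invariant hn hr.1, Subgroup.mem_centralizer_iff.mpr fun d hd => ?_⟩
  have h1 := Subgroup.mem_centralizer_iff.mp hr.2 _ (c.Del_invariant ((Ns t S).inv_mem hn) hd)
  rw [inv_inv] at h1
  calc d * (n * r * n⁻¹) = n * (n⁻¹ * d * n * r) * n⁻¹ := by group
    _ = n * (r * (n⁻¹ * d * n)) * n⁻¹ := by rw [h1]
    _ = n * r * n⁻¹ * d := by group

theorem R_le_D {r v : G} (hr : r ∈ Rs t S) (hv : v ∈ Vs t S) (hv1 : v ≠ 1) : r ∈ D v := by
  obtain ⟨n, hn, rfl⟩ := c.transitive hv hv1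
  have hr' : n⁻¹ * r * n ∈ Rs t S := by
    simpa using c.R_invariant ((Ns t S).inv_mem hn) hr
  obtain ⟨a, ha, haL, haD⟩ := c.Cs_decomp_t hr'.1
  obtain ⟨H, hH, -, -, hHt, hHfix⟩ := c.exists_three
  have hHW : H * a * H⁻¹ = a := by
    have h1 : H * (n⁻¹ * r * n) * H⁻¹ = n⁻¹ * r * n :=
      conj_fix (Subgroup.mem_centralizer_iff.mp hr'.2 H hH)
    obtain ⟨a', ha', hD'⟩ : ∃ a', a' = H * a * H⁻¹ ∧ n⁻¹ * r * n * a' ∈ D t := by
      refine ⟨_, rfl, ?_⟩
      have := D_invariant (c := H) (mul_inv_eq_iff_eq_mul.mp hHt) haD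
      rwa [show H * (n⁻¹ * r * n * a) * H⁻¹ = H * (n⁻¹ * r * n) * H⁻¹ * (H * a * H⁻¹) by group, h1]
        at this
    have hmem : a⁻¹ * a' ∈ D t := by
      have := (D t).mul_mem ((D t).inv_mem haD) hD'
      rwa [show (n⁻¹ * r * n * a)⁻¹ * (n⁻¹ * r * n * a') = a⁻¹ * a' by group] at this
    have hL : a⁻¹ * a' ∈ L t := (L t).mul_mem ((L t).inv_mem haL)
      (ha' ▸ L_invariant (mul_inv_eq_iff_eq_mul.mp hHt) haL)
    have := c.hyp.D_inf_L hmem hL
    rw [← ha']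
    exact (inv_mul_eq_one.mp this).symm
  rw [hHfix a ha haL hHW, mul_one] at haD
  rw [D, Subgroup.mem_centralizer_iff]
  intro y hy
  have hy' : n⁻¹ * y * n ∈ W t := mem_of_conj_map (W_map t n ▸ hy)
  have h1 := congrArg (MulAut.conj n) (Subgroup.mem_centralizer_iff.mp haD _ hy')
  simpa [MulAut.conj_apply, map_mul, mul_assoc] using h1

/-! ### Subgroups -/

theorem Del_le_good {H : Subgroup G} (hH : Good t S H) : Del t S ≤ H :=
  (Subgroup.closure_le _).mpr fun _ ⟨v, hv, hv1, hL, _, _⟩ => hH.2 v hv hv1 hL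

theorem W_le_good {H : Subgroup G} (hH : Good t S H) {v : G} (hv : v ∈ Vs t S) (hv1 : v ≠ 1) :
    W v ≤ H :=
  (c.hyp_at hv hv1).W_le (hH.1 hv) (hH.2 v hv hv1)

/-- A Sylow subgroup of `H` through `V`. -/
theorem exists_sylow_sub {H : Subgroup G} (hV : Vs t S ≤ H) :
    ∃ P : Sylow 2 H, Vs t S ≤ (P : Subgroup H).map H.subtype := by
  obtain ⟨P, hP⟩ := ((c.V_pgroup).comap_of_injective H.subtype H.subtype_injective :
    IsPGroup 2 ((Vs t S).subgroupOf H)).exists_le_sylow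
  exact ⟨P, fun v hv => ⟨⟨v, hV hv⟩, hP hv, rfl⟩⟩

/-- Conjugates of `t` in `H` are conjugate in `H` to elements of `V`. -/
theorem class_in {H : Subgroup G} (hV : Vs t S ≤ H) {y : G} (hy : y ∈ H) (hc : IsConj t y) :
    ∃ k ∈ H, k * y * k⁻¹ ∈ Vs t S := by
  haveI : Fact (Nat.Prime 2) := ⟨Nat.prime_two⟩
  obtain ⟨P, hP⟩ := c.exists_sylow_sub hV
  have hy2 : IsPGroup 2 (Subgroup.zpowers (⟨y, hy⟩ : H)) := by
    refine IsPGroup.of_card (n := 1) ?_
    obtain ⟨g, hg⟩ := isConj_iff.mp hc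
    rw [Nat.card_zpowers, ← Subgroup.orderOf_coe, show ((⟨y, hy⟩ : H) : G) = g * t * g⁻¹ from hg.symm,
      conj_orderOf, c.hyp.ord, pow_one]
  obtain ⟨k, hk⟩ := Transfer.exists_map_conj_le_sylow hy2 P
  refine ⟨k, k.2, (c.two_sub (P.2.map _) hP).2 _ ⟨_, hk ⟨_, Subgroup.mem_zpowers _, rfl⟩, rfl⟩
    (hc.trans (isConj_iff.mpr ⟨(k : G), rfl⟩))⟩

/-- Fusion in `V` inside `H`. -/
theorem fusion_in {H : Subgroup G} (hV : Vs t S ≤ H) {g v : G} (hg : g ∈ H) (hv : v ∈ Vs t S)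
    (hgv : g * v * g⁻¹ ∈ Vs t S) : ∃ n ∈ H ⊓ Ns t S, n * v * n⁻¹ = g * v * g⁻¹ := by
  haveI : Fact (Nat.Prime 2) := ⟨Nat.prime_two⟩
  set H' := H ⊓ Subgroup.centralizer ({g * v * g⁻¹} : Set G) with hH'
  have hV' : Vs t S ≤ H' := le_inf hV fun u hu =>
    Subgroup.mem_centralizer_singleton_iff.mpr (c.V_comm hu hgv).eq
  obtain ⟨P, hP⟩ := c.exists_sylow_sub hV'
  have hg' : (Vs t S).map (MulAut.conj g).toMonoidHom ≤ H' := by
    rintro _ ⟨u, hu, rfl⟩
    exact ⟨H.mul_mem (H.mul_mem hg (hV hu)) (H.inv_mem hg),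
      Subgroup.mem_centralizer_singleton_iff.mpr ((c.V_comm hu hv).map (MulAut.conj g).toMonoidHom).eq⟩
  have hidx : ¬ 2 ∣ ((P : Subgroup H').map H'.subtype).relIndex H' := by
    rw [Subgroup.relIndex, Subgroup.subgroupOf,
      Subgroup.comap_map_eq_self_of_injective H'.subtype_injective]
    exact P.not_dvd_index
  obtain ⟨k, hk, hle⟩ := Transfer.exists_conj_le_of_not_dvd_relIndex (Subgroup.map_subtype_le _)
    (P.2.map _) hidx hg' (Transfer.isPGroup_conj_map c.V_pgroup g)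
  have heq : (Vs t S).map (MulAut.conj (k * g)).toMonoidHom = Vs t S := by
    refine Subgroup.eq_of_le_of_card_ge ?_
      (le_of_eq (Subgroup.card_map_of_injective (MulAut.conj (k * g)).injective).symm)
    rintro _ ⟨u, hu, rfl⟩
    show k * g * u * (k * g)⁻¹ ∈ _
    rcases eq_or_ne u 1 with rfl | hu1
    · simp
    have hmem : k * (g * u * g⁻¹) * k⁻¹ ∈ (P : Subgroup H').map H'.subtype :=
      hle ⟨_, ⟨u, hu, rfl⟩, rfl⟩
    rw [show k * g * u * (k * g)⁻¹ = k * (g * u * g⁻¹) * k⁻¹ by group]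
    exact (c.two_sub (P.2.map _) hP).2 _ hmem
      ((c.conj_of_mem hu hu1).trans (isConj_iff.mpr ⟨k * g, by group⟩))
  refine ⟨k * g, ⟨H.mul_mem hk.1 hg, Transfer.map_conj_eq_self_iff.mp heq⟩, ?_⟩
  rw [show k * g * v * (k * g)⁻¹ = k * (g * v * g⁻¹) * k⁻¹ by group]
  exact conj_fix (Subgroup.mem_centralizer_singleton_iff.mp hk.2)

theorem mem_class {H : Subgroup G} (hH : Good t S H) {y : G} (hy : y ∈ H) (hc : IsConj t y) :
    ∃ k ∈ H, k * t * k⁻¹ = y := by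
  obtain ⟨k, hk, hkV⟩ := c.class_in hH.1 hy hc
  have h1 : k * y * k⁻¹ ≠ 1 := by
    obtain ⟨g, rfl⟩ := isConj_iff.mp hc
    exact fun e => c.hyp.t_ne (conj_eq_one_iff.mp (conj_eq_one_iff.mp e))
  obtain ⟨d, hd, hdt⟩ := c.Del_transitive hkV h1
  refine ⟨k⁻¹ * d, H.mul_mem (H.inv_mem hk) (c.Del_le_good hH hd), ?_⟩
  rw [show k⁻¹ * d * t * (k⁻¹ * d)⁻¹ = k⁻¹ * (d * t * d⁻¹) * k by group, hdt]; group

theorem t_mem_good {H : Subgroup G} (hH : Good t S H) : t ∈ H := hH.1 c.t_mem_V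

theorem cls_le {H : Subgroup G} (hH : Good t S H) : cls t H ≤ H :=
  (Subgroup.closure_le _).mpr fun _ ⟨_, hk, e⟩ =>
    e ▸ H.mul_mem (H.mul_mem hk (c.t_mem_good hH)) (H.inv_mem hk)

theorem mem_cls {H : Subgroup G} (hH : Good t S H) {y : G} (hy : y ∈ H) (hc : IsConj t y) :
    y ∈ cls t H := Subgroup.subset_closure (c.mem_class hH hy hc)

/-- The hypothesis passes to good subgroups. -/
theorem hyp_good {H : Subgroup G} (hH : Good t S H) : Hyp (⟨t, c.t_mem_good hH⟩ : H) := by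
  refine ⟨(Subgroup.orderOf_mk _ _).trans c.hyp.ord, ?_, ?_⟩
  · obtain ⟨P, hP⟩ := c.exists_sylow_sub hH.1
    refine ⟨P, ?_, fun s hs => Subtype.ext ?_⟩
    · obtain ⟨y, hy, e⟩ := hP c.t_mem_V
      exact (Subtype.ext e : y = ⟨t, c.t_mem_good hH⟩) ▸ hy
    · exact (Subgroup.mem_centralizer_iff.mp
        ((c.two_sub (P.2.map _) hP).1 ⟨s, hs, rfl⟩) t c.t_mem_V).symm
  · have e : (W (⟨t, c.t_mem_good hH⟩ : H)).map H.subtype = W t := by
      rw [W, W, MonoidHom.map_closure]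
      congr 1
      ext y
      constructor
      · rintro ⟨⟨x, hx⟩, ⟨k, hk, hkt⟩, rfl⟩
        exact ⟨k, congrArg Subtype.val hk, congrArg Subtype.val hkt⟩
      · rintro ⟨g, rfl, hgt⟩
        have hmem : g * t * g⁻¹ ∈ H := c.W_le_good hH c.t_mem_V c.hyp.t_ne (conj_mem_W hgt)
        obtain ⟨k, hk, hkt⟩ := c.mem_class hH hmem (isConj_iff.mpr ⟨g, rfl⟩)
        exact ⟨⟨_, hmem⟩, ⟨⟨k, hk⟩, Subtype.ext hkt.symm, Subtype.ext hgt⟩, rfl⟩
    obtain ⟨i⟩ := c.hyp.iso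
    exact ⟨(((W (⟨t, c.t_mem_good hH⟩ : H)).equivMapOfInjective _ H.subtype_injective).trans
      (MulEquiv.subgroupCongr e)).trans i⟩

theorem normalClosure_good {H : Subgroup G} (hH : Good t S H) :
    (Subgroup.normalClosure ({⟨t, c.t_mem_good hH⟩} : Set H)).map H.subtype = cls t H := by
  rw [Subgroup.normalClosure, cls, MonoidHom.map_closure]
  congr 1
  ext y
  simp only [Set.mem_image, Group.mem_conjugatesOfSet_iff, Set.mem_singleton_iff, exists_eq_left]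
  constructor
  · rintro ⟨x, hx, rfl⟩
    obtain ⟨k, hk⟩ := isConj_iff.mp hx
    exact ⟨k, k.2, congrArg Subtype.val hk⟩
  · rintro ⟨k, hk, rfl⟩
    exact ⟨⟨k, hk⟩ * ⟨t, c.t_mem_good hH⟩ * ⟨k, hk⟩⁻¹, isConj_iff.mpr ⟨⟨k, hk⟩, rfl⟩, rfl⟩

end Sc

end CfsgLib.JOneWeak
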