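import Cfsg.Agent.Lib.JOneWeak.Star
import Mathlib.GroupTheory.Focal

/-!
The structure of a minimal configuration: `S = V` and `C(t) = W`.
-/

set_option autoImplicit false
set_option linter.style.haveILetI false
set_option linter.unusedSectionVars false

namespace CfsgLib.JOneWeak

open CfsgLib.JOneOrder CfsgLib.JOneUnique
open scoped commutatorElement

variable {G : Type*} [Group G] [Finite G]

namespace Sc

variable {t : G} {S : Sylow 2 G} (c : Sc t S)
include c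

theorem perfect (hgen : cls t ⊤ = ⊤) : commutator G = ⊤ := by
  obtain ⟨v, hv, hv1, hvt⟩ : ∃ v ∈ Vs t S, v ≠ 1 ∧ v ≠ t := by
    by_contra hcon
    push Not at hcon
    have hle : Vs t S ≤ Subgroup.zpowers t := fun y hy => by
      rcases eq_or_ne y 1 with rfl | hy1
      · exact one_mem _
      · rw [hcon y hy hy1]; exact Subgroup.mem_zpowers t
    have := Subgroup.card_le_of_le hle
    rw [c.card_V, Nat.card_zpowers, c.hyp.ord] at this
    omega
  have hof : ∀ x, IsConj t x → Abelianization.of x = Abelianization.of t := fun x hx => by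
    obtain ⟨g, rfl⟩ := isConj_iff.mp hx
    simp [map_mul, mul_comm]
  have htv : t * v ≠ 1 := fun e => hvt (by
    calc v = t * (t * v) := by rw [← mul_assoc, c.hyp.t_sq, one_mul]
      _ = t := by rw [e, mul_one])
  have h1 : Abelianization.of t = 1 := by
    have h2 := hof _ (c.conj_of_mem ((Vs t S).mul_mem c.t_mem_V hv) htv)
    rw [map_mul, hof v (c.conj_of_mem hv hv1)] at h2
    exact mul_eq_left.mp h2
  refine top_le_iff.mp (hgen ▸ (Subgroup.closure_le _).mpr ?_)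
  rintro _ ⟨k, -, rfl⟩
  rw [SetLike.mem_coe, ← Abelianization.ker_of, MonoidHom.mem_ker, hof _ (isConj_iff.mpr ⟨k, rfl⟩), h1]

theorem central_two_mem {z : G} (hz : z ∈ Subgroup.center G) (h2 : z * z = 1) :
    z ∈ (S : Subgroup G) := by
  rcases eq_or_ne z 1 with rfl | hz1
  · exact one_mem _
  haveI : Fact (Nat.Prime 2) := ⟨Nat.prime_two⟩
  obtain ⟨g, hg⟩ := Transfer.exists_map_conj_le_sylow (X := Subgroup.zpowers z)
    (IsPGroup.of_card (n := 1) (by
      rw [Nat.card_zpowers, Invol.orderOf_two_of_mul_self h2 hz1, pow_one])) S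
  have := hg ⟨z, Subgroup.mem_zpowers z, rfl⟩
  change g * z * g⁻¹ ∈ (S : Subgroup G) at this
  rwa [Subgroup.mem_center_iff.mp hz g, mul_inv_cancel_right] at this

theorem center_inf_V {z : G} (hz : z ∈ Subgroup.center G) (hV : z ∈ Vs t S) : z = 1 :=
  c.fixed_eq_one hV fun d _ => by rw [Subgroup.mem_center_iff.mp hz d, mul_inv_cancel_right]

/-- The odd elements of `C(V)` are trivial. -/
theorem Cs_eq_S (hind : Ind t S) (hZ : Subgroup.center G = ⊥) (hgen : cls t ⊤ = ⊤) :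
    Cs t S = (S : Subgroup G) := by
  haveI : Fact (Nat.Prime 2) := ⟨Nat.prime_two⟩
  set D0 : Subgroup G := Subgroup.closure {z | z ∈ Cs t S ∧ Odd (orderOf z)} with hD0
  have hodd : ∀ v ∈ Vs t S, v ≠ 1 → ∀ z ∈ Cs t S, Odd (orderOf z) → z ∈ D v := by
    intro v hv hv1 z hz ho
    obtain ⟨a, ha, haL, haD⟩ := c.Cs_decomp hz hv hv1
    have hca : Commute z a := (Subgroup.mem_centralizer_iff.mp hz a ha).symm
    have h1 : (z * a) ^ orderOf z = a := by
      rw [hca.mul_pow, pow_orderOf_eq_one, one_mul]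
      obtain ⟨k, hk⟩ := ho
      rw [hk, pow_succ, pow_mul, pow_two, c.V_sq ha, one_pow, one_mul]
    have : a = 1 := (c.hyp_at hv hv1).D_inf_L (h1 ▸ (D v).pow_mem haD _) haL
    rwa [this, mul_one] at haD
  have hnorm : ∀ g : G, (∀ z ∈ Cs t S, Odd (orderOf z) → g * z * g⁻¹ ∈ Cs t S) →
      (∀ z ∈ Cs t S, Odd (orderOf z) → g⁻¹ * z * g ∈ Cs t S) →
      g ∈ Subgroup.normalizer (D0 : Set G) := by
    intro g hg hg'
    have key : ∀ g : G, (∀ z ∈ Cs t S, Odd (orderOf z) → g * z * g⁻¹ ∈ Cs t S) →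
        D0.map (MulAut.conj g).toMonoidHom ≤ D0 := by
      intro g hg
      rw [hD0, MonoidHom.map_closure]
      refine Subgroup.closure_mono ?_
      rintro _ ⟨z, ⟨hz, ho⟩, rfl⟩
      exact ⟨hg z hz ho, by rw [show (MulAut.conj g).toMonoidHom z = g * z * g⁻¹ from rfl, conj_orderOf]; exact ho⟩
    refine Subgroup.mem_normalizer_iff.mpr fun x => ⟨fun hx => key g hg ⟨x, hx, rfl⟩, fun hx => ?_⟩
    have := key g⁻¹ (by simpa using hg') ⟨_, hx, rfl⟩
    simpa [MulAut.conj_apply, mul_assoc] using this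
  have hC : ∀ v ∈ Vs t S, v ≠ 1 →
      Subgroup.centralizer ({v} : Set G) ≤ Subgroup.normalizer (D0 : Set G) := by
    intro v hv hv1 g hg
    have hg' : Commute g v := Subgroup.mem_centralizer_singleton_iff.mp hg
    refine hnorm g (fun z hz ho => c.D_le_Cs hv hv1 (D_invariant hg' (hodd v hv hv1 z hz ho)))
      (fun z hz ho => ?_)
    have := c.D_le_Cs hv hv1 (D_invariant hg'.inv_left (hodd v hv hv1 z hz ho))
    rwa [inv_inv] at this
  have hN : Ns t S ≤ Subgroup.normalizer (D0 : Set G) := fun g hg =>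
    hnorm g (fun z hz _ => c.Cs_invariant hg hz)
      (fun z hz _ => by simpa using c.Cs_invariant ((Ns t S).inv_mem hg) hz)
  have htop := c.no_proper hind hZ hgen hC hN
  haveI : D0.Normal := Subgroup.normalizer_eq_top_iff.mp htop
  have hD0t : ∀ d ∈ D0, Commute d t := by
    intro d hd
    have hle : D0 ≤ Subgroup.centralizer ({t} : Set G) := (Subgroup.closure_le _).mpr fun z hz =>
      Subgroup.mem_centralizer_singleton_iff.mpr
        (Subgroup.mem_centralizer_iff.mp hz.1 t c.t_mem_V).symm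
    exact Subgroup.mem_centralizer_singleton_iff.mp (hle hd)
  have hcent : ∀ d ∈ D0, d ∈ Subgroup.center G := by
    intro d hd
    refine Subgroup.mem_center_iff.mpr fun g => ?_
    have hle : cls t ⊤ ≤ Subgroup.centralizer ({d} : Set G) := by
      refine (Subgroup.closure_le _).mpr ?_
      rintro _ ⟨k, -, rfl⟩
      have h1 := hD0t _ (show k⁻¹ * d * k ∈ D0 by simpa using Subgroup.Normal.conj_mem inferInstance d hd k⁻¹)
      refine Subgroup.mem_centralizer_singleton_iff.mpr ?_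
      have h2 := h1.map (MulAut.conj k).toMonoidHom
      have h3 : Commute d (k * t * k⁻¹) := by simpa [MulAut.conj_apply, mul_assoc] using h2
      exact h3.symm.eq
    rw [hgen] at hle
    exact Subgroup.mem_centralizer_singleton_iff.mp (hle (Subgroup.mem_top g))
  have hone : ∀ z ∈ Cs t S, Odd (orderOf z) → z = 1 := fun z hz ho => by
    have := hcent z (Subgroup.subset_closure ⟨hz, ho⟩)
    rwa [hZ, Subgroup.mem_bot] at this
  have hp : IsPGroup 2 (Cs t S) := by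
    obtain ⟨k, m, hm, he⟩ : ∃ k m, ¬ 2 ∣ m ∧ Nat.card (Cs t S) = 2 ^ k * m :=
      Nat.exists_eq_pow_mul_and_not_dvd Nat.card_pos.ne' 2 (by norm_num)
    intro z
    refine ⟨k, Subtype.ext (hone _ ((z ^ 2 ^ k : Cs t S)).2 ?_)⟩
    refine Odd.of_dvd_nat (Nat.odd_iff.mpr (by omega) : Odd m) ?_
    rw [Subgroup.orderOf_coe]
    refine orderOf_dvd_of_pow_eq_one ?_
    rw [← pow_mul, ← he, pow_card_eq_one']
  exact S.3 hp c.S_le_Cs

/-- The Klein part of `V`. -/
theorem coordsA : ∃ x : A5, ∀ q : G, (q ∈ Vs t S ∧ q ∈ L t) ↔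
    ∃ a : A5, (a = 1 ∨ a = va ∨ a = vb ∨ a = va * vb) ∧ q = c.hyp.emb (1, x⁻¹ * a * x) := by
  obtain ⟨x, hx⟩ := c.coords
  refine ⟨x, fun q => ⟨fun ⟨hq, hL⟩ => ?_, ?_⟩⟩
  · obtain ⟨a, ha, hqa | hqa⟩ := (hx q).mp hq
    · exact ⟨a, ha, hqa⟩
    · exfalso
      refine c.hyp.t_notMem_L ?_
      have := (L t).mul_mem hL ((L t).inv_mem (c.hyp.emb_mem_L (x⁻¹ * a * x)))
      rwa [hqa, mul_inv_cancel_right] at this
  · rintro ⟨a, ha, rfl⟩
    exact ⟨(hx _).mpr ⟨a, ha, Or.inl rfl⟩, c.hyp.emb_mem_L _⟩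

/-- Normalisers of `V` fixing `t`. -/
theorem stab_form (hCS : Cs t S = (S : Subgroup G)) {H : G} (hHN : H ∈ Ns t S) (hH3 : H ^ 3 = 1)
    (hHt : H * t * H⁻¹ = t) (hHfix : ∀ a ∈ Vs t S, a ∈ L t → H * a * H⁻¹ = a → a = 1)
    {m : G} (hm : m ∈ Ns t S) (hmt : Commute m t) :
    ∃ i : ℕ, ∃ s ∈ (S : Subgroup G), m = H ^ i * s := by
  haveI : Fact (Nat.Prime 2) := ⟨Nat.prime_two⟩
  obtain ⟨x, hx⟩ := c.coordsA
  set e : A5 → G := fun a => c.hyp.emb (1, x⁻¹ * a * x) with he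
  have hinj : ∀ a b, e a = e b → a = b := fun a b hab => mul_left_cancel (mul_right_cancel
    (show x⁻¹ * a * x = x⁻¹ * b * x from congrArg Prod.snd (c.hyp.emb_injective hab)))
  have he1 : e 1 = 1 := by
    show c.hyp.emb (1, x⁻¹ * 1 * x) = 1
    rw [show x⁻¹ * (1 : A5) * x = 1 by group, Prod.mk_one_one, map_one]
  have hmul : ∀ a b, e (a * b) = e a * e b := fun a b => by
    show c.hyp.emb (1, x⁻¹ * (a * b) * x) = c.hyp.emb (1, x⁻¹ * a * x) * c.hyp.emb (1, x⁻¹ * b * x)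
    rw [← map_mul, Prod.mk_mul_mk, one_mul]
    exact congrArg c.hyp.emb (Prod.ext rfl (show x⁻¹ * (a * b) * x = x⁻¹ * a * x * (x⁻¹ * b * x) by group))
  have hstab : ∀ {g}, g ∈ Ns t S → Commute g t → ∀ a, (a = 1 ∨ a = va ∨ a = vb ∨ a = va * vb) →
      ∃ b, (b = 1 ∨ b = va ∨ b = vb ∨ b = va * vb) ∧ g * e a * g⁻¹ = e b := fun {g} hg hgt a ha => by
    obtain ⟨h1, h2⟩ := (hx (e a)).mpr ⟨a, ha, rfl⟩
    exact (hx _).mp ⟨c.Ns_conj hg h1, L_invariant hgt h2⟩
  have hHc : Commute H t := mul_inv_eq_iff_eq_mul.mp hHt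
  obtain ⟨-, -, -, k1, k2, k3, k4, k5, k6⟩ := klein_facts
  obtain ⟨p2, hp2, hHa⟩ := hstab hHN hHc va (by simp)
  obtain ⟨p3, hp3, hHHa⟩ := hstab ((Ns t S).mul_mem hHN hHN) (hHc.mul_left hHc) va (by simp)
  obtain ⟨b, hb, hma⟩ := hstab hm hmt va (by simp)
  have hne1 : ∀ {g p}, g * e va * g⁻¹ = e p → p ≠ 1 := fun {g p} hgp e' => k1 (hinj _ _ (by
    rw [e', he1] at hgp; rw [he1]; exact conj_eq_one_iff.mp hgp))
  have hfx : H * e va * H⁻¹ ≠ e va := fun e' => k1 (hinj _ _ (by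
    rw [he1]
    exact hHfix _ ((hx _).mpr ⟨va, by simp, rfl⟩).1 ((hx _).mpr ⟨va, by simp, rfl⟩).2 e'))
  have hfx2 : H * H * e va * (H * H)⁻¹ ≠ e va := fun e' => hfx (by
    calc H * e va * H⁻¹ = H * (H * H * e va * (H * H)⁻¹) * H⁻¹ := by rw [e']
      _ = H ^ 3 * e va * (H ^ 3)⁻¹ := by rw [pow_three]; group
      _ = e va := by rw [hH3, one_mul, inv_one, mul_one])
  have h12 : va ≠ p2 := fun e' => hfx (by rw [hHa, e'])
  have h13 : va ≠ p3 := fun e' => hfx2 (by rw [hHHa, e'])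
  have h23 : p2 ≠ p3 := fun e' => hfx (by
    have hh : H * (H * e va * H⁻¹) * H⁻¹ = H * e va * H⁻¹ := by
      calc _ = H * H * e va * (H * H)⁻¹ := by group
        _ = H * e va * H⁻¹ := by rw [hHHa, hHa, e']
    exact mul_left_cancel (mul_right_cancel hh))
  have hb1 := hne1 hma
  obtain ⟨i, hi⟩ : ∃ i : ℕ, H ^ i * e va * (H ^ i)⁻¹ = e b := by
    by_cases hb0 : va = b
    · exact ⟨0, by rw [pow_zero, ← hb0]; group⟩
    by_cases hb2 : p2 = b
    · exact ⟨1, by rw [pow_one, hHa, hb2]⟩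
    refine ⟨2, ?_⟩
    have hb3 : b = va * p2 := klein_third (Or.inr (Or.inl rfl)) hp2 hb k1 (hne1 hHa) hb1 h12 hb0 hb2
    have hp : p3 = va * p2 :=
      klein_third (Or.inr (Or.inl rfl)) hp2 hp3 k1 (hne1 hHa) (hne1 hHHa) h12 h13 h23
    rw [pow_two, hHHa, hb3, hp]
  set m' := (H ^ i)⁻¹ * m with hm'
  have hm'N : m' ∈ Ns t S := (Ns t S).mul_mem ((Ns t S).inv_mem ((Ns t S).pow_mem hHN i)) hm
  have hm't : Commute m' t := (hHc.pow_left i).inv_left.mul_left hmt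
  have hm'a : m' * e va * m'⁻¹ = e va := by
    calc m' * e va * m'⁻¹ = (H ^ i)⁻¹ * (m * e va * m⁻¹) * H ^ i := by rw [hm']; group
      _ = (H ^ i)⁻¹ * (H ^ i * e va * (H ^ i)⁻¹) * H ^ i := by rw [hma, hi]
      _ = e va := by group
  have hsq : m' * m' ∈ Cs t S := by
    have hvb : m' * m' * e vb * (m' * m')⁻¹ = e vb := by
      obtain ⟨d, hd, hmd⟩ := hstab hm'N hm't vb (by simp)
      by_cases hd2 : d = vb
      · rw [hd2] at hmd
        rw [show m' * m' * e vb * (m' * m')⁻¹ = m' * (m' * e vb * m'⁻¹) * m'⁻¹ by group, hmd, hmd]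
      have hd1 : d ≠ 1 := fun e' => k2 (hinj _ _ (by
        rw [e', he1] at hmd; rw [he1]; exact conj_eq_one_iff.mp hmd))
      have hda : d ≠ va := fun e' => k3 (hinj _ _ (by
        rw [e', ← hm'a] at hmd; exact mul_left_cancel (mul_right_cancel hmd.symm)))
      have hd3 : d = va * vb :=
        klein_third (by simp) (by simp) hd k1 k2 hd1 k3 (Ne.symm hda) (Ne.symm hd2)
      calc m' * m' * e vb * (m' * m')⁻¹ = m' * (m' * e vb * m'⁻¹) * m'⁻¹ := by group
        _ = m' * (e va * e vb) * m'⁻¹ := by rw [hmd, hd3, hmul]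
        _ = m' * e va * m'⁻¹ * (m' * e vb * m'⁻¹) := by group
        _ = e va * (e va * e vb) := by rw [hm'a, hmd, hd3, hmul]
        _ = e vb := by rw [← hmul va vb, ← hmul, ← mul_assoc, klein_facts.1, one_mul]
    have hA : ∀ q, q ∈ Vs t S → q ∈ L t → Commute (m' * m') q := by
      intro q hq hL
      obtain ⟨a, ha, rfl⟩ := (hx q).mp ⟨hq, hL⟩
      have h2 : Commute (m' * m') (e vb) := mul_inv_eq_iff_eq_mul.mp hvb
      have h1 : Commute (m' * m') (e va) := by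
        have : Commute m' (e va) := mul_inv_eq_iff_eq_mul.mp hm'a
        exact this.mul_left this
      show Commute (m' * m') (e a)
      rcases ha with rfl | rfl | rfl | rfl
      · rw [he1]; exact Commute.one_right _
      · exact h1
      · exact h2
      · rw [hmul]; exact h1.mul_right h2
    refine Subgroup.mem_centralizer_iff.mpr fun v hv => ?_
    rcases c.mem_or_mul_mem hv with hL | hL
    · exact (hA v hv hL).symm.eq
    · have h1 := (hm't.mul_left hm't).mul_right (hA _ ((Vs t S).mul_mem c.t_mem_V hv) hL)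
      rw [← mul_assoc t t v, c.hyp.t_sq, one_mul] at h1
      exact h1.symm.eq
  refine ⟨i, m', ?_, by rw [hm']; group⟩
  rw [hCS] at hsq
  have hp : IsPGroup 2 (Subgroup.zpowers m') := by
    obtain ⟨k, hk⟩ := S.2 ⟨_, hsq⟩
    refine fun y => ⟨k + 1, Subtype.ext ?_⟩
    obtain ⟨j, hj⟩ := Subgroup.mem_zpowers_iff.mp y.2
    have h1 : m' ^ (2 ^ (k + 1)) = 1 := by
      rw [pow_succ, mul_comm, pow_mul, pow_two]
      exact congrArg Subtype.val hk
    rw [Subgroup.coe_pow, ← hj, ← zpow_natCast, zpow_comm, zpow_natCast, h1, one_zpow]; rfl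
  have hle : Subgroup.zpowers m' ≤ Subgroup.normalizer ((S : Subgroup G) : Set G) := by
    refine Subgroup.zpowers_le.mpr (Subgroup.mem_normalizer_iff.mpr fun z => ?_)
    rw [← hCS]
    refine ⟨fun hz => c.Cs_invariant hm'N hz, fun hz => ?_⟩
    simpa [mul_assoc] using c.Cs_invariant ((Ns t S).inv_mem hm'N) hz
  have := S.3 (IsPGroup.to_sup_of_normal_right' hp S.2 hle) le_sup_right
  exact this ▸ Subgroup.mem_sup_left (Subgroup.mem_zpowers m')

/-- In a minimal configuration `S = V` and `C(t) = W`. -/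
theorem endgame (hind : Ind t S) (hZ : Subgroup.center G = ⊥) (hgen : cls t ⊤ = ⊤) :
    (S : Subgroup G) = Vs t S ∧ Subgroup.centralizer ({t} : Set G) = W t := by
  haveI : Fact (Nat.Prime 2) := ⟨Nat.prime_two⟩
  have hCS := c.Cs_eq_S hind hZ hgen
  obtain ⟨H, hH, hHL, hH3, hHt, hHfix⟩ := c.exists_three
  have hHN := c.Del_le_Ns hH
  have hNs : ∀ n ∈ Ns t S, ∃ d ∈ Del t S, ∃ s ∈ (S : Subgroup G), n = d * s := by
    intro n hn
    obtain ⟨d, hd, e⟩ := c.Del_transitive (c.Ns_conj hn c.t_mem_V) (fun e => c.hyp.t_ne (conj_eq_one_iff.mp e))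
    have hm : d⁻¹ * n ∈ Ns t S := (Ns t S).mul_mem ((Ns t S).inv_mem (c.Del_le_Ns hd)) hn
    have hmt : Commute (d⁻¹ * n) t := by
      refine mul_inv_eq_iff_eq_mul.mp ?_
      calc d⁻¹ * n * t * (d⁻¹ * n)⁻¹ = d⁻¹ * (n * t * n⁻¹) * d := by group
        _ = d⁻¹ * (d * t * d⁻¹) * d := by rw [e]
        _ = t := by group
    obtain ⟨i, s, hs, es⟩ := c.stab_form hCS hHN hH3 hHt hHfix hm hmt
    exact ⟨d * H ^ i, (Del t S).mul_mem hd ((Del t S).pow_mem hH i), s, hs, by rw [mul_assoc, ← es]; group⟩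
  set R' : Subgroup G := ⁅Rs t S, Rs t S⁆ with hR'
  have hR'R : R' ≤ Rs t S := Subgroup.commutator_le_self _
  have hR'V : ∀ k ∈ R', ∀ v ∈ Vs t S, Commute k v := fun k hk v hv =>
    (Subgroup.mem_centralizer_iff.mp (hR'R hk).1 v hv).symm
  let U : Subgroup G :=
    { carrier := {g | ∃ v ∈ Vs t S, ∃ k ∈ R', g = v * k}
      one_mem' := ⟨1, one_mem _, 1, one_mem _, (one_mul 1).symm⟩
      mul_mem' := by
        rintro _ _ ⟨v, hv, k, hk, rfl⟩ ⟨v', hv', k', hk', rfl⟩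
        refine ⟨v * v', (Vs t S).mul_mem hv hv', k * k', R'.mul_mem hk hk', ?_⟩
        rw [(hR'V k hk v' hv').symm.mul_mul_mul_comm]
      inv_mem' := by
        rintro _ ⟨v, hv, k, hk, rfl⟩
        exact ⟨v⁻¹, (Vs t S).inv_mem hv, k⁻¹, R'.inv_mem hk, by
          rw [← mul_inv_rev, (hR'V k hk v hv).eq]⟩ }
  have hW : Cfsg.IsWeaklyClosed (Vs t S) (S : Subgroup G) := by
    refine ⟨inf_le_left, fun g hg => Subgroup.eq_of_le_of_card_ge ?_
      (le_of_eq (Subgroup.card_map_of_injective (MulAut.conj g).injective).symm)⟩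
    rintro _ ⟨z, hz, rfl⟩
    rcases eq_or_ne z 1 with rfl | hz1
    · simp
    exact c.mem_V_of_conj ((c.conj_of_mem hz hz1).trans (isConj_iff.mpr ⟨g, rfl⟩)) (hg ⟨z, hz, rfl⟩)
  have hSU : (S : Subgroup G) ≤ U := by
    intro z hz
    have h1 : z ∈ commutator G ⊓ (S : Subgroup G) := ⟨by rw [c.perfect hgen]; trivial, hz⟩
    rw [Subgroup.commutator_inf_eq_focalSubgroup S, Subgroup.focalSubgroup_def] at h1
    refine (Subgroup.closure_le U).mpr ?_ h1
    rintro y ⟨hyS, x, hxS, u, rfl⟩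
    have hx' : u * x⁻¹ * u⁻¹ ∈ (S : Subgroup G) := by
      rw [show u * x⁻¹ * u⁻¹ = x⁻¹ * ⁅x, u⁆ by rw [commutatorElement_def]; group]
      exact (S : Subgroup G).mul_mem ((S : Subgroup G).inv_mem hxS) hyS
    obtain ⟨n, hn, en⟩ := Transfer.exists_normalizer_conj_of_weaklyClosed S hW u
      (hCS ▸ (S : Subgroup G).inv_mem hxS : x⁻¹ ∈ Cs t S) (hCS ▸ hx' : u * x⁻¹ * u⁻¹ ∈ Cs t S)
    obtain ⟨v, hv, hr⟩ := c.decomp (hCS ▸ hxS : x ∈ Cs t S)
    obtain ⟨d, hd, s, hs, rfl⟩ := hNs n hn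
    obtain ⟨v', hv', hr'⟩ := c.decomp (hCS ▸ hs : s ∈ Cs t S)
    set r := x * v with hrdef
    set r' := s * v' with hr'def
    have hvv : ∀ {w}, w ∈ Vs t S → ∀ {q}, q ∈ Cs t S → Commute w q := fun hw _ hq =>
      Subgroup.mem_centralizer_iff.mp hq _ hw
    have hsr : s * r⁻¹ * s⁻¹ = r' * r⁻¹ * r'⁻¹ := by
      rw [show r' * r⁻¹ * r'⁻¹ = s * (v' * r⁻¹ * v'⁻¹) * s⁻¹ by rw [hr'def]; group,
        conj_fix (hvv hv' ((Cs t S).inv_mem hr.1))]
    have hmid : r' * r⁻¹ * r'⁻¹ ∈ Rs t S :=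
      (Rs t S).mul_mem ((Rs t S).mul_mem hr' ((Rs t S).inv_mem hr)) ((Rs t S).inv_mem hr')
    have hnr : d * s * r⁻¹ * (d * s)⁻¹ = r' * r⁻¹ * r'⁻¹ := by
      rw [show d * s * r⁻¹ * (d * s)⁻¹ = d * (s * r⁻¹ * s⁻¹) * d⁻¹ by group, hsr]
      exact conj_fix (Subgroup.mem_centralizer_iff.mp hmid.2 d hd)
    have hnv : d * s * v * (d * s)⁻¹ ∈ Vs t S := c.Ns_conj hn hv
    have key : ⁅x, u⁆ = (v⁻¹ * (d * s * v * (d * s)⁻¹)) * (r * (r' * r⁻¹ * r'⁻¹)) := by
      have hxr : x⁻¹ = v * r⁻¹ := by rw [hrdef]; group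
      calc ⁅x, u⁆ = x * (u * x⁻¹ * u⁻¹) := by rw [commutatorElement_def]; group
        _ = (r * v⁻¹) * ((d * s * v * (d * s)⁻¹) * (d * s * r⁻¹ * (d * s)⁻¹)) := by
            rw [← en, hxr, hrdef]; group
        _ = r * (v⁻¹ * (d * s * v * (d * s)⁻¹)) * (r' * r⁻¹ * r'⁻¹) := by rw [hnr]; group
        _ = _ := by
            rw [← (hvv ((Vs t S).mul_mem ((Vs t S).inv_mem hv) hnv) hr.1).eq]; group
    refine ⟨_, (Vs t S).mul_mem ((Vs t S).inv_mem hv) hnv, _, ?_, key⟩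
    have := Subgroup.commutator_mem_commutator hr hr'
    rwa [commutatorElement_def, show r * r' * r⁻¹ * r'⁻¹ = r * (r' * r⁻¹ * r'⁻¹) by group] at this
  have hR1 : Rs t S = ⊥ := by
    haveI : Group.IsNilpotent (Rs t S) := (S.2.to_le (hCS ▸ c.R_le_Cs)).isNilpotent
    refine Transfer.eq_bot_of_le_commutator_self fun r hr => ?_
    obtain ⟨v, hv, k, hk, e⟩ := hSU (hCS ▸ hr.1 : r ∈ (S : Subgroup G))
    have hv1 : v = 1 := c.R_inf_V (by
      rw [show v = r * k⁻¹ by rw [e]; group]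
      exact (Rs t S).mul_mem hr ((Rs t S).inv_mem (hR'R hk))) hv
    rw [e, hv1, one_mul]; exact hk
  have hSV : (S : Subgroup G) = Vs t S := by
    refine le_antisymm (fun z hz => ?_) inf_le_left
    obtain ⟨v, hv, hr⟩ := c.decomp (hCS ▸ hz : z ∈ Cs t S)
    rw [hR1, Subgroup.mem_bot] at hr
    rw [show z = v⁻¹ from eq_inv_of_mul_eq_one_left hr]
    exact (Vs t S).inv_mem hv
  refine ⟨hSV, le_antisymm (fun m hm => ?_) (W_le_centralizer t)⟩
  have hmt : Commute m t := Subgroup.mem_centralizer_singleton_iff.mp hm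
  have hidx : ¬ 2 ∣ (Vs t S).relIndex (W t) := by
    have e1 : Nat.card (Vs t S) * (Vs t S).relIndex (W t) = Nat.card (W t) := by
      have := Subgroup.card_mul_index ((Vs t S).subgroupOf (W t))
      rwa [Nat.card_congr (Subgroup.subgroupOfEquivOfLe (show Vs t S ≤ W t from inf_le_right)).toEquiv] at this
    rw [c.card_V, c.hyp.card_W] at e1
    omega
  have hg : (Vs t S).map (MulAut.conj m).toMonoidHom ≤ W t := by
    rintro _ ⟨z, hz, rfl⟩; exact W_invariant hmt hz.2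
  obtain ⟨w, hw, hle⟩ := Transfer.exists_conj_le_of_not_dvd_relIndex inf_le_right c.V_pgroup hidx
    hg (Transfer.isPGroup_conj_map c.V_pgroup m)
  have hwm : w * m ∈ Ns t S := by
    refine Transfer.map_conj_eq_self_iff.mp (Subgroup.eq_of_le_of_card_ge ?_
      (le_of_eq (Subgroup.card_map_of_injective (MulAut.conj (w * m)).injective).symm))
    rintro _ ⟨z, hz, rfl⟩
    have := hle ⟨_, ⟨z, hz, rfl⟩, rfl⟩
    change w * (m * z * m⁻¹) * w⁻¹ ∈ Vs t S at this
    show w * m * z * (w * m)⁻¹ ∈ Vs t S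
    rwa [show w * m * z * (w * m)⁻¹ = w * (m * z * m⁻¹) * w⁻¹ by group]
  obtain ⟨i, s, hs, es⟩ := c.stab_form hCS hHN hH3 hHt hHfix hwm ((commute_of_mem_W hw).mul_left hmt)
  have hs' : s ∈ W t := (hSV.le hs).2
  rw [show m = w⁻¹ * (H ^ i * s) by rw [← es]; group]
  exact (W t).mul_mem ((W t).inv_mem hw) ((W t).mul_mem ((W t).pow_mem (c.hyp.L_le_W hHL) i) hs')

end Sc

end CfsgLib.JOneWeak
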