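import Cfsg.Agent.Lib.J1.Invol
import Cfsg.Agent.Lib.J1.Simple
import Cfsg.Agent.Lib.Hall.Basic
import Cfsg.Agent.S0205

/-!
Facts on the first Janko group: the number of involutions and bounds on subgroups of odd order.
-/

set_option autoImplicit false
set_option linter.style.haveILetI false

namespace CfsgLib.JOneWeak

open CfsgLib.J1

theorem elem2_eq : orderOf tInv = 2 := elem2

/-- A single class of involutions. -/
theorem card_invol_of_transitive {H : Type*} [Group H] {u : H} (hu : orderOf u = 2)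
    (hall : ∀ x : H, orderOf x = 2 → ∃ w, w * x * w⁻¹ = u) :
    Nat.card {x : H // orderOf x = 2} = (Subgroup.centralizer ({u} : Set H)).index := by
  have horb : MulAction.orbit (ConjAct H) u = {x : H | orderOf x = 2} := by
    ext x
    constructor
    · rintro ⟨g, rfl⟩
      show orderOf (g • u) = 2
      rw [ConjAct.smul_def]
      exact ((MulAut.conj _).orderOf_eq u).trans hu
    · intro hx
      obtain ⟨w, hw⟩ := hall x hx
      refine ⟨ConjAct.toConjAct w⁻¹, ?_⟩
      show ConjAct.toConjAct w⁻¹ • u = x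
      rw [ConjAct.toConjAct_smul, ← hw]; group
  have h := MulAction.index_stabilizer (ConjAct H) u
  rw [horb, ConjAct.stabilizer_eq_centralizer] at h
  refine (Nat.card_coe_set_eq _).trans (h.symm.trans ?_)
  rfl

theorem conj_tInv {x : J} (hx : orderOf x = 2) : ∃ w : J, w * x * w⁻¹ = tInv := conj_invol hx

theorem card_invol : Nat.card {x : J // orderOf x = 2} = 1463 := by
  rw [card_invol_of_transitive elem2_eq fun x hx => conj_tInv hx]
  have h2 := Subgroup.card_mul_index Cen
  rw [card_cen, card_eq] at h2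
  change (Cen).index = 1463
  omega

/-- An element of order three or five commutes with an involution. -/
theorem exists_invol_commute {x : J} {q : ℕ} (hq : q = 3 ∨ q = 5) (hx : orderOf x = q) :
    ∃ j : J, orderOf j = 2 ∧ Commute x j := by
  haveI : Finite J := Nat.finite_of_card_ne_zero (by rw [card_eq]; norm_num)
  haveI : Fact q.Prime := ⟨by rcases hq with rfl | rfl <;> norm_num⟩
  obtain ⟨⟨g, hg⟩, hgo⟩ := exists_prime_orderOf_dvd_card' (G := Cen) q (by
    rw [card_cen]; rcases hq with rfl | rfl <;> norm_num)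
  have hgo' : orderOf g = q := by rw [← hgo]; exact (Subgroup.orderOf_mk _ _).symm
  obtain ⟨w, hw⟩ := conj_zpowers (by rcases hq with e | e <;> simp [e]) hgo' hx
  obtain ⟨k, hk⟩ := Subgroup.mem_zpowers_iff.mp hw
  have hc : Commute (w * x * w⁻¹) tInv := hk ▸ Commute.zpow_left
    (show Commute g tInv from Subgroup.mem_centralizer_singleton_iff.mp hg) k
  refine ⟨w⁻¹ * tInv * w, ?_, ?_⟩
  · have := (MulAut.conj w⁻¹).orderOf_eq tInv
    simpa [MulAut.conj_apply] using this.trans elem2_eq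
  · have := hc.map (MulAut.conj w⁻¹).toMonoidHom
    simpa [MulAut.conj_apply, mul_assoc] using this

/-- A group of order `p * q` without divisibility between `p`, `q - 1` has an element of that order. -/
theorem exists_orderOf_mul {H : Type*} [Group H] [Finite H] {p q : ℕ} (hp : p.Prime) (hq : q.Prime)
    (hne : p ≠ q) (hcard : Nat.card H = p * q) (hpq : ¬ p ∣ q - 1) (hqp : ¬ q ∣ p - 1) :
    ∃ z : H, orderOf z = p * q := by
  haveI := Fact.mk hp
  haveI := Fact.mk hq
  have hone : ∀ {r s : ℕ} [Fact r.Prime], s.Prime → r ≠ s → Nat.card H = r * s → ¬ r ∣ s - 1 →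
      ∀ P : Sylow r H, (P : Subgroup H).Normal ∧ Nat.card (P : Subgroup H) = r := by
    intro r s _ hs hrs hc hnd P
    have hP : Nat.card (P : Subgroup H) = r := by
      rw [P.card_eq_multiplicity, hc, Nat.factorization_mul (Fact.out : r.Prime).ne_zero hs.ne_zero,
        Finsupp.add_apply, (Fact.out : r.Prime).factorization_self, hs.factorization]
      simp [Finsupp.single_eq_of_ne hrs, hrs]
    refine ⟨?_, hP⟩
    have h1 : Nat.card (Sylow r H) ∣ s := by
      have h := P.card_dvd_index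
      have h2 := Subgroup.card_mul_index (P : Subgroup H)
      rw [hP, hc] at h2
      rwa [Nat.eq_of_mul_eq_mul_left (Fact.out : r.Prime).pos h2] at h
    have h3 : Nat.card (Sylow r H) = 1 := by
      rcases (Nat.dvd_prime hs).mp h1 with h | h
      · exact h
      · exfalso
        refine hnd ?_
        have := card_sylow_modEq_one r H
        rw [h] at this
        exact (Nat.modEq_iff_dvd' hs.one_le).mp this.symm
    haveI := (Nat.card_eq_one_iff_unique.mp h3).1
    exact P.normal_of_subsingleton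
  obtain ⟨P⟩ : Nonempty (Sylow p H) := inferInstance
  obtain ⟨Q⟩ : Nonempty (Sylow q H) := inferInstance
  obtain ⟨hPn, hPc⟩ := hone hq hne hcard hpq P
  obtain ⟨hQn, hQc⟩ := hone hp hne.symm (hcard.trans (mul_comm p q)) hqp Q
  obtain ⟨x, hx⟩ := exists_prime_orderOf_dvd_card' (G := (P : Subgroup H)) p (by rw [hPc])
  obtain ⟨y, hy⟩ := exists_prime_orderOf_dvd_card' (G := (Q : Subgroup H)) q (by rw [hQc])
  have hdis : Disjoint (P : Subgroup H) (Q : Subgroup H) :=
    Subgroup.disjoint_of_coprime_natCard (by rw [hPc, hQc]; exact (Nat.coprime_primes hp hq).mpr hne)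
  have hc : Commute (x : H) (y : H) := Subgroup.commute_of_normal_of_disjoint _ _ hPn hQn hdis _ _ x.2 y.2
  refine ⟨(x : H) * y, ?_⟩
  rw [hc.orderOf_mul_eq_mul_orderOf_of_coprime, Subgroup.orderOf_coe, Subgroup.orderOf_coe, hx, hy]
  rw [Subgroup.orderOf_coe, Subgroup.orderOf_coe, hx, hy]
  exact (Nat.coprime_primes hp hq).mpr hne

theorem no_pair {P : Subgroup J} (hsol : Group.IsSolvable P) {p q : ℕ}
    (h : (p, q) ∈ [(3, 11), (5, 7), (5, 19), (7, 11), (7, 19), (11, 19)]) :
    ¬ (p ∣ Nat.card P ∧ q ∣ Nat.card P) := by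
  haveI : Finite J := Nat.finite_of_card_ne_zero (by rw [card_eq]; norm_num)
  haveI := hsol
  rintro ⟨hp, hq⟩
  obtain ⟨hpp, hqp, hne, h1, h2, hsq, hspec⟩ : p.Prime ∧ q.Prime ∧ p ≠ q ∧ ¬ p ∣ q - 1 ∧ ¬ q ∣ p - 1 ∧
      ¬ (p * q).Coprime 175560 ∧ p * q ∉ ({1, 2, 3, 5, 6, 7, 10, 11, 15, 19} : Finset ℕ) := by
    fin_cases h <;> norm_num <;> decide
  have hdvd : p * q ∣ Nat.card P := ((Nat.coprime_primes hpp hqp).mpr hne).mul_dvd_of_dvd_of_dvd hp hq
  obtain ⟨m, hm⟩ := hdvd
  have hcop : (p * q).Coprime m := by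
    have hd : p * q * m ∣ 175560 := hm ▸ card_eq ▸ Subgroup.card_subgroup_dvd_card P
    have hm' : m ∣ 175560 / (p * q) :=
      Nat.dvd_div_of_mul_dvd hd
    refine Nat.Coprime.coprime_dvd_right hm' ?_
    clear hsol hsq hm hd hm' hp hq hspec hne h1 h2
    fin_cases h <;> norm_num
  obtain ⟨H, hH⟩ := Hall.exists_hall hm hcop
  obtain ⟨z, hz⟩ := exists_orderOf_mul hpp hqp hne hH h1 h2
  have := orderOf_mem ((z : P) : J)
  rw [Subgroup.orderOf_coe, Subgroup.orderOf_coe, hz] at this
  exact hspec this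

theorem divisor_bounds : ∀ d ∈ Nat.divisors 21945,
    (¬ (3 ∣ d ∧ 11 ∣ d) ∧ ¬ (5 ∣ d ∧ 7 ∣ d) ∧ ¬ (5 ∣ d ∧ 19 ∣ d) ∧ ¬ (7 ∣ d ∧ 11 ∣ d) ∧
      ¬ (7 ∣ d ∧ 19 ∣ d) ∧ ¬ (11 ∣ d ∧ 19 ∣ d)) →
    d ≤ 57 ∧ (¬ 3 ∣ d → ¬ 5 ∣ d → d ≤ 19) := by
  decide +kernel

theorem odd_bounds {P : Subgroup J} (hP : Odd (Nat.card P)) :
    Nat.card P ≤ 57 ∧ (¬ 3 ∣ Nat.card P → ¬ 5 ∣ Nat.card P → Nat.card P ≤ 19) := by
  haveI : Finite J := Nat.finite_of_card_ne_zero (by rw [card_eq]; norm_num)
  have hsol : Group.IsSolvable P := Cfsg.Agent.S0205.result hP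
  have hd : Nat.card P ∣ 21945 := by
    have h := Subgroup.card_subgroup_dvd_card P
    rw [card_eq, show 175560 = 2 ^ 3 * 21945 by norm_num] at h
    exact (Nat.Coprime.pow_right 3 (Nat.coprime_two_right.mpr hP)).dvd_of_dvd_mul_left h
  exact divisor_bounds _ (Nat.mem_divisors.mpr ⟨hd, by norm_num⟩)
    ⟨no_pair hsol (by simp), no_pair hsol (by simp), no_pair hsol (by simp), no_pair hsol (by simp),
      no_pair hsol (by simp), no_pair hsol (by simp)⟩

/-- A subgroup of odd order none of whose nontrivial elements centralises an involution. -/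
theorem odd_small {P : Subgroup J} (hP : Odd (Nat.card P))
    (hno : ∀ k ∈ P, k ≠ 1 → ∀ j : J, orderOf j = 2 → ¬ Commute k j) : Nat.card P ≤ 19 := by
  haveI : Finite J := Nat.finite_of_card_ne_zero (by rw [card_eq]; norm_num)
  have key : ∀ q : ℕ, q = 3 ∨ q = 5 → ¬ q ∣ Nat.card P := by
    intro q hq hd
    haveI : Fact q.Prime := ⟨by rcases hq with rfl | rfl <;> norm_num⟩
    obtain ⟨⟨k, hk⟩, hko⟩ := exists_prime_orderOf_dvd_card' q hd
    have hko' : orderOf k = q := by rw [← hko]; exact (Subgroup.orderOf_mk _ _).symm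
    obtain ⟨j, hj, hkj⟩ := exists_invol_commute hq hko'
    exact hno k hk (fun e => by rw [e, orderOf_one] at hko'; rcases hq with rfl | rfl <;> omega) j hj hkj
  exact (odd_bounds hP).2 (key 3 (Or.inl rfl)) (key 5 (Or.inr rfl))

end CfsgLib.JOneWeak
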