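import Cfsg.Agent.Lib.JOneWeak.Basic
import Mathlib.GroupTheory.GroupAction.Quotient

/-!
The elementary subgroup `V = S ∩ W` of order eight: all its involutions are conjugates of `t`,
it is weakly closed, and `S` centralises it.
-/

set_option autoImplicit false
set_option linter.style.haveILetI false
set_option linter.unusedSectionVars false
set_option synthInstance.maxSize 2000
set_option synthInstance.maxHeartbeats 400000

namespace CfsgLib.JOneWeak

open CfsgLib.JOneOrder CfsgLib.JOneUnique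

variable {G : Type*} [Group G]

theorem conj_commute {x y : G} (g : G) (hc : Commute x y) :
    Commute (g * x * g⁻¹) (g * y * g⁻¹) :=
  hc.map (MulAut.conj g).toMonoidHom

theorem mem_of_conj_map {H : Subgroup G} {g y : G}
    (hy : y ∈ H.map (MulAut.conj g).toMonoidHom) : g⁻¹ * y * g ∈ H := by
  obtain ⟨x, hx, rfl⟩ := hy
  simpa [MulAut.conj_apply, mul_assoc] using hx

variable [Finite G]

/-- A Sylow subgroup with `t` in its centre. -/
structure Sc (t : G) (S : Sylow 2 G) : Prop where
  hyp : Hyp t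
  mem : t ∈ (S : Subgroup G)
  cent : ∀ s ∈ (S : Subgroup G), s * t = t * s

/-- The subgroup `V`. -/
def Vs (t : G) (S : Sylow 2 G) : Subgroup G := (S : Subgroup G) ⊓ W t

theorem Hyp.exists_sc {t : G} (h : Hyp t) : ∃ S : Sylow 2 G, Sc t S := by
  obtain ⟨S, h1, h2⟩ := h.syl
  exact ⟨S, h, h1, h2⟩

theorem klein_mul : ∀ a b : A5, (a = 1 ∨ a = va ∨ a = vb ∨ a = va * vb) →
    (b = 1 ∨ b = va ∨ b = vb ∨ b = va * vb) →
    (a * b = 1 ∨ a * b = va ∨ a * b = vb ∨ a * b = va * vb) ∧ a * b = b * a ∧ a * a = 1 := by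
  decide +kernel

namespace Sc

variable {t : G} {S : Sylow 2 G} (c : Sc t S)
include c

omit [Finite G] in
theorem commute_S {s : G} (hs : s ∈ (S : Subgroup G)) : Commute s t := c.cent s hs

theorem t_mem_V : t ∈ Vs t S := ⟨c.mem, self_mem_W t⟩

theorem card_V : Nat.card (Vs t S) = 8 := by
  haveI : Fact (Nat.Prime 2) := ⟨Nat.prime_two⟩
  haveI := c.hyp.W_finite
  refine le_antisymm ?_ ?_
  · have hp : IsPGroup 2 (Vs t S) := S.2.to_le inf_le_left
    obtain ⟨k, hk⟩ := IsPGroup.iff_card.mp hp
    have hd : 2 ^ k ∣ 120 := hk ▸ c.hyp.card_W ▸ Subgroup.card_dvd_of_le inf_le_right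
    rw [hk]
    by_contra hlt
    have : 2 ^ 4 ∣ 2 ^ k := pow_dvd_pow 2 (by
      by_contra h4; exact hlt ((pow_le_pow_right₀ (by norm_num) (by omega : k ≤ 3)).trans (by norm_num)))
    have := this.trans hd
    norm_num at this
  · obtain ⟨P⟩ : Nonempty (Sylow 2 (W t)) := inferInstance
    have hP : Nat.card (P : Subgroup (W t)) = 8 := by
      have h1 := P.card_eq_multiplicity
      rw [c.hyp.card_W, Nat.factorization_def _ Nat.prime_two] at h1
      rw [h1, show (120 : ℕ) = 2 ^ 3 * 15 by norm_num, padicValNat.mul (by norm_num) (by norm_num),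
        padicValNat.prime_pow, padicValNat.eq_zero_of_not_dvd (by norm_num : ¬ 2 ∣ 15)]
      norm_num
    set C := Subgroup.centralizer ({t} : Set G)
    have hSC : (S : Subgroup G) ≤ C := fun s hs =>
      Subgroup.mem_centralizer_singleton_iff.mpr (c.cent s hs)
    have hidx : ¬ 2 ∣ (S : Subgroup G).relIndex C := fun hd =>
      S.not_dvd_index (hd.trans (Subgroup.relIndex_dvd_index_of_le hSC))
    obtain ⟨k, hk, hle⟩ := Transfer.exists_conj_le_of_not_dvd_relIndex hSC S.2 hidx
      ((Subgroup.map_subtype_le (P : Subgroup (W t))).trans (W_le_centralizer t)) (P.2.map _)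
    have hle' : ((P : Subgroup (W t)).map (W t).subtype).map (MulAut.conj k).toMonoidHom ≤ Vs t S := by
      refine le_inf hle ?_
      rintro _ ⟨_, ⟨y, -, rfl⟩, rfl⟩
      exact W_invariant (Subgroup.mem_centralizer_singleton_iff.mp hk) y.2
    have := Subgroup.card_le_of_le hle'
    rwa [Subgroup.card_map_of_injective (MulAut.conj k).injective,
      Subgroup.card_map_of_injective (W t).subtype_injective, hP] at this

theorem coords : ∃ x : A5, ∀ q : G, q ∈ Vs t S ↔ ∃ a : A5, (a = 1 ∨ a = va ∨ a = vb ∨ a = va * vb) ∧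
    (q = c.hyp.emb (1, x⁻¹ * a * x) ∨ q = t * c.hyp.emb (1, x⁻¹ * a * x)) :=
  c.hyp.eight_coords inf_le_right c.card_V c.t_mem_V

theorem V_comm {u v : G} (hu : u ∈ Vs t S) (hv : v ∈ Vs t S) : Commute u v := by
  obtain ⟨x, hx⟩ := c.coords
  obtain ⟨a, ha, hua⟩ := (hx u).mp hu
  obtain ⟨b, hb, hvb⟩ := (hx v).mp hv
  have hab : Commute (x⁻¹ * a * x) (x⁻¹ * b * x) := by
    simpa [MulAut.conj_apply] using
      (show Commute a b from (klein_mul a b ha hb).2.1).map (MulAut.conj x⁻¹).toMonoidHom
  have hA : Commute (c.hyp.emb (1, x⁻¹ * a * x)) (c.hyp.emb (1, x⁻¹ * b * x)) :=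
    (show Commute ((1 : Z2), x⁻¹ * a * x) (1, x⁻¹ * b * x) from
      Prod.ext rfl hab.eq).map c.hyp.emb
  have ht : ∀ q, Commute t (c.hyp.emb q) := fun q => (commute_of_mem_W (c.hyp.emb_mem q)).symm
  rcases hua with rfl | rfl <;> rcases hvb with rfl | rfl
  · exact hA
  · exact (ht _).symm.mul_right hA
  · exact (ht _).mul_left hA
  · exact ((Commute.refl t).mul_right (ht _)).mul_left ((ht _).symm.mul_right hA)

theorem V_sq {v : G} (hv : v ∈ Vs t S) : v * v = 1 := by
  obtain ⟨x, hx⟩ := c.coords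
  obtain ⟨a, ha, hva⟩ := (hx v).mp hv
  have h1 : (x⁻¹ * a * x) * (x⁻¹ * a * x) = 1 := by
    rw [show x⁻¹ * a * x * (x⁻¹ * a * x) = x⁻¹ * (a * a) * x by group, (klein_mul a a ha ha).2.2]
    group
  have h2 : c.hyp.emb (1, x⁻¹ * a * x) * c.hyp.emb (1, x⁻¹ * a * x) = 1 := by
    rw [← map_mul, Prod.mk_mul_mk, one_mul, h1, Prod.mk_one_one, map_one]
  rcases hva with rfl | rfl
  · exact h2
  · have hc : Commute t (c.hyp.emb (1, x⁻¹ * a * x)) := (commute_of_mem_W (c.hyp.emb_mem _)).symm
    rw [hc.symm.mul_mul_mul_comm, c.hyp.t_sq, one_mul, h2]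

theorem V_orderOf {v : G} (hv : v ∈ Vs t S) (h1 : v ≠ 1) : orderOf v = 2 :=
  Invol.orderOf_two_of_mul_self (c.V_sq hv) h1

theorem mem_or_mul_mem {v : G} (hv : v ∈ Vs t S) : v ∈ L t ∨ t * v ∈ L t := c.hyp.mem_W_sup hv.2

/-- Conjugates of `t` in `S` lie in `V`. -/
theorem mem_V_of_conj {y : G} (hy : IsConj t y) (hyS : y ∈ (S : Subgroup G)) : y ∈ Vs t S := by
  obtain ⟨g, rfl⟩ := isConj_iff.mp hy
  exact ⟨hyS, conj_mem_W (c.commute_S hyS)⟩

/-- All non-identity elements of `V` are conjugate to `t`. -/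
theorem conj_of_mem {v : G} (hv : v ∈ Vs t S) (hv1 : v ≠ 1) : IsConj t v := by
  obtain ⟨x, hx⟩ := c.coords
  set h := c.hyp
  -- the element of order three
  obtain ⟨-, r, -, hr1, hr2⟩ := three_gen
  set R : G := h.emb (1, x⁻¹ * r * x) with hR
  set e : A5 → G := fun a => h.emb (1, x⁻¹ * a * x) with he
  have hRt : Commute R t := commute_of_mem_W (h.emb_mem _)
  have hRe : ∀ a b, r * a * r⁻¹ = b → R * e a * R⁻¹ = e b := by
    intro a b hab
    rw [hR, he, ← map_inv, ← map_mul, ← map_mul]
    congr 1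
    refine Prod.ext (by simp) ?_
    show x⁻¹ * r * x * (x⁻¹ * a * x) * (x⁻¹ * r * x)⁻¹ = x⁻¹ * b * x
    rw [← hab]; group
  have hcyc : ∀ P : G → Prop, (∀ y, P y → P (R * y * R⁻¹)) →
      (P (e va) ∨ P (e vb) ∨ P (e (va * vb))) → P (e va) ∧ P (e vb) ∧ P (e (va * vb)) := by
    intro P hP hor
    have h1 : P (e va) → P (e vb) := fun hp => hRe va vb hr1 ▸ hP _ hp
    have h2 : P (e vb) → P (e (va * vb)) := fun hp => hRe vb _ hr2 ▸ hP _ hp
    have h3 : P (e (va * vb)) → P (e va) := fun hp => by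
      have : r * (va * vb) * r⁻¹ = va := by
        calc r * (va * vb) * r⁻¹ = (r * va * r⁻¹) * (r * vb * r⁻¹) := by group
          _ = vb * (va * vb) := by rw [hr1, hr2]
          _ = va := by rw [klein_facts.2.2.1, ← mul_assoc, klein_facts.2.1, one_mul]
      exact hRe _ _ this ▸ hP _ hp
    rcases hor with hp | hp | hp
    · exact ⟨hp, h1 hp, h2 (h1 hp)⟩
    · exact ⟨h3 (h2 hp), hp, h2 hp⟩
    · exact ⟨h3 hp, h1 (h3 hp), hp⟩
  -- the two triples
  let P1 : G → Prop := fun y => IsConj t y
  let P2 : G → Prop := fun y => IsConj t (t * y)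
  have hP1 : ∀ y, P1 y → P1 (R * y * R⁻¹) := fun y hy => hy.trans (isConj_iff.mpr ⟨R, rfl⟩)
  have hP2 : ∀ y, P2 y → P2 (R * y * R⁻¹) := fun y hy => by
    refine hy.trans (isConj_iff.mpr ⟨R, ?_⟩)
    rw [show R * (t * y) * R⁻¹ = (R * t * R⁻¹) * (R * y * R⁻¹) by group, conj_fix hRt]
  set T1 := P1 (e va) ∧ P1 (e vb) ∧ P1 (e (va * vb))
  set T2 := P2 (e va) ∧ P2 (e vb) ∧ P2 (e (va * vb))
  have he1 : e 1 = 1 := by
    show h.emb (1, x⁻¹ * 1 * x) = 1
    rw [show x⁻¹ * 1 * x = 1 by group, Prod.mk_one_one, map_one]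
  have hmemV : ∀ a, (a = 1 ∨ a = va ∨ a = vb ∨ a = va * vb) → e a ∈ Vs t S ∧ t * e a ∈ Vs t S :=
    fun a ha => ⟨(hx _).mpr ⟨a, ha, Or.inl rfl⟩, (hx _).mpr ⟨a, ha, Or.inr rfl⟩⟩
  -- some conjugate other than `t`
  have hone : T1 ∨ T2 := by
    obtain ⟨y, ⟨g, rfl, hgc⟩, hyt⟩ : ∃ y ∈ Wset t, y ≠ t := by
      by_contra hcon
      push Not at hcon
      have hle : W t ≤ Subgroup.zpowers t := (Subgroup.closure_le _).mpr fun y hy =>
        (hcon y hy).symm ▸ Subgroup.mem_zpowers t
      have := Subgroup.card_le_of_le hle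
      rw [h.card_W, Nat.card_zpowers, h.ord] at this
      omega
    obtain ⟨a, ha⟩ := h.emb_cases (conj_mem_W hgc)
    have hy1 : g * t * g⁻¹ ≠ 1 := Invol.ne_one_of_orderOf_two ((conj_orderOf g).trans h.ord)
    have ha2 : a * a = 1 := by
      have hsq : g * t * g⁻¹ * (g * t * g⁻¹) = 1 :=
        Invol.mul_self_of_orderOf_two ((conj_orderOf g).trans h.ord)
      rcases ha with ha | ha <;> rw [← ha] at hsq
      · rw [← map_mul, ← map_one h.emb] at hsq
        exact congrArg Prod.snd (h.emb_injective hsq)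
      · rw [h.t_mul_emb, ← map_mul, ← map_one h.emb] at hsq
        exact congrArg Prod.snd (h.emb_injective hsq)
    have ha1 : a ≠ 1 := by
      rintro rfl
      rcases ha with ha | ha
      · rw [Prod.mk_one_one, map_one] at ha; exact hy1 ha.symm
      · rw [Prod.mk_one_one, map_one, mul_one] at ha; exact hyt ha.symm
    have hva : x⁻¹ * va * x ≠ 1 := fun e => klein_facts.2.2.2.1 (by
      calc va = x * (x⁻¹ * va * x) * x⁻¹ := by group
        _ = 1 := by rw [e]; group)
    obtain ⟨k, hk⟩ := invol_conj a (x⁻¹ * va * x) ha2 ha1 (by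
      rw [show x⁻¹ * va * x * (x⁻¹ * va * x) = x⁻¹ * (va * va) * x by group, klein_facts.1]; group) hva
    have hkk : h.emb (1, k) * h.emb (1, a) * (h.emb (1, k))⁻¹ = e va := by
      rw [he, ← map_inv, ← map_mul, ← map_mul]
      congr 1
      exact Prod.ext (by simp) hk
    have hkt : Commute (h.emb (1, k)) t := commute_of_mem_W (h.emb_mem _)
    have hconj : IsConj t (h.emb (1, k) * (g * t * g⁻¹) * (h.emb (1, k))⁻¹) :=
      isConj_iff.mpr ⟨h.emb (1, k) * g, by group⟩
    rcases ha with ha | ha <;> rw [← ha] at hconj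
    · refine Or.inl (hcyc P1 hP1 (Or.inl ?_))
      show IsConj t (e va)
      rwa [hkk] at hconj
    · refine Or.inr (hcyc P2 hP2 (Or.inl ?_))
      show IsConj t (t * e va)
      rwa [show h.emb (1, k) * (t * h.emb (1, a)) * (h.emb (1, k))⁻¹ =
        h.emb (1, k) * t * (h.emb (1, k))⁻¹ * (h.emb (1, k) * h.emb (1, a) * (h.emb (1, k))⁻¹) by group,
        conj_fix hkt, hkk] at hconj
  by_cases hboth : T1 ∧ T2
  · obtain ⟨⟨a1, a2, a3⟩, b1, b2, b3⟩ := hboth
    obtain ⟨a, ha, hva⟩ := (hx v).mp hv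
    rcases ha with rfl | rfl | rfl | rfl <;> rcases hva with rfl | rfl
    · exact absurd (by rw [show x⁻¹ * 1 * x = 1 by group, Prod.mk_one_one, map_one]) hv1
    · rw [show x⁻¹ * 1 * x = 1 by group, Prod.mk_one_one, map_one, mul_one]
    all_goals assumption
  exfalso
  -- the orbit of `t` under the normalizer has odd size
  set N := Subgroup.normalizer (Vs t S : Set G)
  set O : Set G := {y | IsConj t y ∧ y ∈ Vs t S} with hO
  have hSN : (S : Subgroup G) ≤ N := by
    intro s hs
    refine Transfer.map_conj_eq_self_iff.mp (Subgroup.eq_of_le_of_card_ge ?_ ?_)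
    · rintro _ ⟨y, ⟨hyS, hyW⟩, rfl⟩
      exact ⟨(S : Subgroup G).mul_mem ((S : Subgroup G).mul_mem hs hyS) ((S : Subgroup G).inv_mem hs),
        W_invariant (c.commute_S hs) hyW⟩
    · rw [Subgroup.card_map_of_injective (MulAut.conj s).injective]
  let act : MulAction N G := MulAction.compHom G (MulAut.conj.comp N.subtype)
  have horb : MulAction.orbit N t = O := by
    ext y
    constructor
    · rintro ⟨⟨n, hn⟩, rfl⟩
      exact ⟨isConj_iff.mpr ⟨n, rfl⟩, (Subgroup.mem_normalizer_iff.mp hn t).mp c.t_mem_V⟩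
    · rintro ⟨hy, hyV⟩
      obtain ⟨g, rfl⟩ := isConj_iff.mp hy
      -- `V` lies in the `W` of the conjugate
      have hVW : Vs t S ≤ W (g * t * g⁻¹) := by
        have hin : ∀ z ∈ Vs t S, IsConj t z → z ∈ W (g * t * g⁻¹) := by
          intro z hz hzc
          obtain ⟨k, rfl⟩ := isConj_iff.mp hzc
          exact Subgroup.subset_closure ⟨k * g⁻¹, by group, (c.V_comm hz hyV).eq⟩
        intro z hz
        have htW := hin t c.t_mem_V (IsConj.refl t)
        obtain ⟨a, ha, hza⟩ := (hx z).mp hz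
        have hea : e a ∈ W (g * t * g⁻¹) := by
          rcases ha with ha1 | ha'
          · rw [ha1, he1]; exact one_mem _
          obtain ⟨hm1, hm2⟩ := hmemV a (Or.inr ha')
          rcases hone with ⟨p1, p2, p3⟩ | ⟨p1, p2, p3⟩
          · rcases ha' with rfl | rfl | rfl
            · exact hin _ hm1 p1
            · exact hin _ hm1 p2
            · exact hin _ hm1 p3
          · have h2 : t * e a ∈ W (g * t * g⁻¹) := by
              rcases ha' with rfl | rfl | rfl
              · exact hin _ hm2 p1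
              · exact hin _ hm2 p2
              · exact hin _ hm2 p3
            have := mul_mem htW h2
            rwa [← mul_assoc, h.t_sq, one_mul] at this
        rcases hza with rfl | rfl
        · exact hea
        · exact mul_mem htW hea
      haveI : Fact (Nat.Prime 2) := ⟨Nat.prime_two⟩
      have hg : (Vs t S).map (MulAut.conj g).toMonoidHom ≤ W (g * t * g⁻¹) :=
        W_map t g ▸ Subgroup.map_mono inf_le_right
      have hidx : ¬ 2 ∣ (Vs t S).relIndex (W (g * t * g⁻¹)) := by
        have e1 : Nat.card (Vs t S) * (Vs t S).relIndex (W (g * t * g⁻¹)) =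
            Nat.card (W (g * t * g⁻¹)) := by
          have := Subgroup.card_mul_index ((Vs t S).subgroupOf (W (g * t * g⁻¹)))
          rwa [Nat.card_congr (Subgroup.subgroupOfEquivOfLe hVW).toEquiv] at this
        rw [c.card_V, (h.conj g).card_W] at e1
        omega
      obtain ⟨w, hw, hle⟩ := Transfer.exists_conj_le_of_not_dvd_relIndex hVW (S.2.to_le inf_le_left) hidx
        hg (Transfer.isPGroup_conj_map (S.2.to_le inf_le_left) g)
      have heq : (Vs t S).map (MulAut.conj (w * g)).toMonoidHom = Vs t S := by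
        refine Subgroup.eq_of_le_of_card_ge ?_ ?_
        · rintro _ ⟨z, hz, rfl⟩
          have := hle ⟨_, ⟨z, hz, rfl⟩, rfl⟩
          simpa [MulAut.conj_apply, mul_assoc] using this
        · rw [Subgroup.card_map_of_injective (MulAut.conj (w * g)).injective]
      refine ⟨⟨w * g, Transfer.map_conj_eq_self_iff.mp heq⟩, ?_⟩
      show w * g * t * (w * g)⁻¹ = g * t * g⁻¹
      have := conj_fix (commute_of_mem_W hw)
      rw [show w * g * t * (w * g)⁻¹ = w * (g * t * g⁻¹) * w⁻¹ by group, this]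
  have hodd : ¬ 2 ∣ O.ncard := by
    rw [← horb, ← MulAction.index_stabilizer N t]
    haveI : Fact (Nat.Prime 2) := ⟨Nat.prime_two⟩
    have hle : ((S.subtype hSN : Sylow 2 N) : Subgroup N) ≤ MulAction.stabilizer N t := fun s hs => by
      rw [MulAction.mem_stabilizer_iff]
      exact conj_fix (c.commute_S (show (s : G) ∈ (S : Subgroup G) from hs))
    exact fun hd => (S.subtype hSN).not_dvd_index (hd.trans (Subgroup.index_dvd_of_le hle))
  have hne : ∀ a b : A5, e a = e b → a = b := fun a b hab => by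
    have := congrArg Prod.snd (h.emb_injective hab)
    exact mul_left_cancel (mul_right_cancel (show x⁻¹ * a * x = x⁻¹ * b * x from this))
  have hte : ∀ a b : A5, t * e a ≠ e b := fun a b hab => by
    rw [h.t_mul_emb] at hab
    exact z2_facts.2.2.1 (congrArg Prod.fst (h.emb_injective hab))
  have hnt : ∀ a : A5, a ≠ 1 → t ≠ t * e a := fun a ha hab => by
    apply ha
    apply hne
    rw [he1]
    exact mul_left_cancel (hab.symm.trans (mul_one t).symm)
  obtain ⟨-, -, -, k1, k2, k3, k4, k5, k6⟩ := klein_facts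
  rcases hone with hT | hT
  · -- only the first triple
    have hOeq : O = {t, e va, e vb, e (va * vb)} := by
      ext y
      constructor
      · rintro ⟨hy, hyV⟩
        obtain ⟨a, ha, hya⟩ := (hx y).mp hyV
        have hno : ∀ b, (b = va ∨ b = vb ∨ b = va * vb) → ¬ IsConj t (t * e b) := fun b hb hc' =>
          hboth ⟨hT, hcyc P2 hP2 (by rcases hb with rfl | rfl | rfl
                                     exacts [Or.inl hc', Or.inr (Or.inl hc'), Or.inr (Or.inr hc')])⟩
        rcases ha with rfl | ha'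
        · rcases hya with rfl | rfl
          · exfalso
            rw [show x⁻¹ * 1 * x = 1 by group, Prod.mk_one_one, map_one] at hy
            exact h.t_ne (isConj_one_left.mp hy)
          · show t * e 1 ∈ _
            rw [he1, mul_one]
            exact Set.mem_insert t _
        · rcases hya with rfl | rfl
          · rcases ha' with rfl | rfl | rfl <;> simp [he]
          · exact absurd hy (hno a ha')
      · rintro (rfl | rfl | rfl | rfl)
        · exact ⟨IsConj.refl _, c.t_mem_V⟩
        · exact ⟨hT.1, (hmemV va (by simp)).1⟩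
        · exact ⟨hT.2.1, (hmemV vb (by simp)).1⟩
        · exact ⟨hT.2.2, (hmemV (va * vb) (by simp)).1⟩
    have ht' : ∀ a, t ≠ e a := fun a hab => hte 1 a (by rw [he1, mul_one]; exact hab)
    have : O.ncard = 4 := by
      rw [hOeq, Set.ncard_insert_of_notMem, Set.ncard_insert_of_notMem, Set.ncard_pair]
      · exact fun e' => k6 (hne _ _ e').symm
      · simp only [Set.mem_insert_iff, Set.mem_singleton_iff, not_or]
        exact ⟨fun e' => k3 (hne _ _ e'), fun e' => k5 (hne _ _ e').symm⟩
      · simp only [Set.mem_insert_iff, Set.mem_singleton_iff, not_or]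
        exact ⟨ht' _, ht' _, ht' _⟩
    omega
  · have hOeq : O = {t, t * e va, t * e vb, t * e (va * vb)} := by
      ext y
      constructor
      · rintro ⟨hy, hyV⟩
        obtain ⟨a, ha, hya⟩ := (hx y).mp hyV
        have hno : ∀ b, (b = va ∨ b = vb ∨ b = va * vb) → ¬ IsConj t (e b) := fun b hb hc' =>
          hboth ⟨hcyc P1 hP1 (by rcases hb with rfl | rfl | rfl
                                 exacts [Or.inl hc', Or.inr (Or.inl hc'), Or.inr (Or.inr hc')]), hT⟩
        rcases ha with rfl | ha'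
        · rcases hya with rfl | rfl
          · exfalso
            rw [show x⁻¹ * 1 * x = 1 by group, Prod.mk_one_one, map_one] at hy
            exact h.t_ne (isConj_one_left.mp hy)
          · show t * e 1 ∈ _
            rw [he1, mul_one]
            exact Set.mem_insert t _
        · rcases hya with rfl | rfl
          · exact absurd hy (hno a ha')
          · rcases ha' with rfl | rfl | rfl <;> simp [he]
      · rintro (rfl | rfl | rfl | rfl)
        · exact ⟨IsConj.refl _, c.t_mem_V⟩
        · exact ⟨hT.1, (hmemV va (by simp)).2⟩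
        · exact ⟨hT.2.1, (hmemV vb (by simp)).2⟩
        · exact ⟨hT.2.2, (hmemV (va * vb) (by simp)).2⟩
    have : O.ncard = 4 := by
      rw [hOeq, Set.ncard_insert_of_notMem, Set.ncard_insert_of_notMem, Set.ncard_pair]
      · exact fun e' => k6 (hne _ _ (mul_left_cancel e')).symm
      · simp only [Set.mem_insert_iff, Set.mem_singleton_iff, not_or]
        exact ⟨fun e' => k3 (hne _ _ (mul_left_cancel e')), fun e' => k5 (hne _ _ (mul_left_cancel e')).symm⟩
      · simp only [Set.mem_insert_iff, Set.mem_singleton_iff, not_or]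
        exact ⟨hnt _ k1, hnt _ k2, hnt _ k4⟩
    omega

end Sc

end CfsgLib.JOneWeak
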