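import Cfsg.Agent.Lib.JOneWeak.Endgame
import Cfsg.Agent.Lib.StemExt.Basic
import Cfsg.Agent.S1644
import Cfsg.Agent.S2039

/-!
The first Janko group from the weak closure of an involution in its centralizer.
-/

set_option autoImplicit false
set_option linter.style.haveILetI false
set_option linter.unusedSectionVars false

namespace CfsgLib.JOneWeak

open CfsgLib.JOneOrder

universe u

variable {G : Type u} [Group G] [Finite G]


namespace Sc

variable {t : G} {S : Sylow 2 G} (c : Sc t S)
include c

theorem conj_quot_eq {g : G} (hg : g * t * g⁻¹ * t * (g * t * g⁻¹)⁻¹ * t⁻¹ ∈ Subgroup.center G) :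
    Commute (g * t * g⁻¹) t := by
  set y := g * t * g⁻¹ with hy
  set z := y * t * y⁻¹ * t⁻¹ with hz
  have hzt : Commute z t := (Subgroup.mem_center_iff.mp hg t).symm
  have hty : y * t * y⁻¹ = z * t := by rw [hz]; group
  have h2 : (z * t) * (z * t) = 1 := by
    rw [← hty, show y * t * y⁻¹ * (y * t * y⁻¹) = y * (t * t) * y⁻¹ by group, c.hyp.t_sq]; group
  have hz2 : z * z = 1 := by
    rwa [hzt.symm.mul_mul_mul_comm, c.hyp.t_sq, mul_one] at h2
  have hzS : z ∈ (S : Subgroup G) := c.central_two_mem hg hz2
  have hmem : z * t ∈ Vs t S :=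
    c.mem_V_of_conj (isConj_iff.mpr ⟨y, hty⟩) ((S : Subgroup G).mul_mem hzS c.mem)
  have hzV : z ∈ Vs t S := by
    have := (Vs t S).mul_mem hmem c.t_mem_V
    rwa [mul_assoc, c.hyp.t_sq, mul_one] at this
  have h1 := c.center_inf_V hg hzV
  rw [h1, one_mul] at hty
  exact mul_inv_eq_iff_eq_mul.mp hty

theorem W_inf_center {z : G} (hW : z ∈ W t) (hz : z ∈ Subgroup.center G) : z = 1 := by
  rcases c.hyp.eq_one_or_t_of_center hW (fun y _ => (Subgroup.mem_center_iff.mp hz y).symm) with e | e
  · exact e
  · exact c.center_inf_V hz (e ▸ c.t_mem_V)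

/-- The hypothesis for the quotient by the centre. -/
theorem hyp_quot : Hyp (QuotientGroup.mk' (Subgroup.center G) t) := by
  haveI : Fact (Nat.Prime 2) := ⟨Nat.prime_two⟩
  set q := QuotientGroup.mk' (Subgroup.center G) with hq
  have hmap : (W t).map q = W (q t) := by
    rw [W, W, MonoidHom.map_closure]
    congr 1
    ext x
    constructor
    · rintro ⟨y, ⟨g, rfl, hg⟩, rfl⟩
      exact ⟨q g, by simp, by rw [← map_mul, hg, map_mul]⟩
    · rintro ⟨g', rfl, hg⟩
      obtain ⟨g, rfl⟩ := QuotientGroup.mk'_surjective (Subgroup.center G) g'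
      refine ⟨g * t * g⁻¹, ⟨g, rfl, (c.conj_quot_eq ?_).eq⟩, by simp [hq]⟩
      rw [← QuotientGroup.ker_mk' (Subgroup.center G), MonoidHom.mem_ker]
      change q (g * t * g⁻¹ * t * (g * t * g⁻¹)⁻¹ * t⁻¹) = 1
      change q g * q t * (q g)⁻¹ * q t = q t * (q g * q t * (q g)⁻¹) at hg
      simp only [map_mul, map_inv]
      rw [hg]; group
  have hinj : Function.Injective (q.comp (W t).subtype) := by
    refine (injective_iff_map_eq_one _).mpr fun w hw => Subtype.ext ?_
    exact c.W_inf_center w.2 (QuotientGroup.ker_mk' (Subgroup.center G) ▸ MonoidHom.mem_ker.mpr hw)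
  refine ⟨?_, ⟨S.mapSurjective (QuotientGroup.mk'_surjective _), ?_, ?_⟩, ?_⟩
  · refine Invol.orderOf_two_of_mul_self (by rw [← map_mul, c.hyp.t_sq, map_one]) fun e => c.hyp.t_ne ?_
    exact c.W_inf_center (self_mem_W t) (QuotientGroup.ker_mk' (Subgroup.center G) ▸ MonoidHom.mem_ker.mpr e)
  · exact ⟨t, c.mem, rfl⟩
  · rintro _ ⟨s, hs, rfl⟩
    rw [← map_mul, c.cent s hs, map_mul]
  · obtain ⟨i⟩ := c.hyp.iso
    have hr : (q.comp (W t).subtype).range = W (q t) := by
      rw [MonoidHom.range_comp, Subgroup.range_subtype, hmap]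
    exact ⟨((MulEquiv.subgroupCongr hr).symm.trans (MonoidHom.ofInjective hinj).symm).trans i⟩

theorem normalClosure_eq_cls : Subgroup.normalClosure ({t} : Set G) = cls t ⊤ := by
  rw [Subgroup.normalClosure, cls]
  congr 1
  ext y
  simp only [Group.mem_conjugatesOfSet_iff, Set.mem_singleton_iff, exists_eq_left, isConj_iff,
    Subgroup.mem_top, true_and, Set.mem_setOf_eq]

theorem good_normalClosure : Good t S (cls t ⊤) := by
  have hmem : ∀ y, IsConj t y → y ∈ cls t ⊤ := fun y hy => by
    obtain ⟨g, rfl⟩ := isConj_iff.mp hy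
    exact Subgroup.subset_closure ⟨g, trivial, rfl⟩
  refine ⟨fun u hu => ?_, fun v hv hv1 => le_trans (c.hyp_at hv hv1).L_le_W ?_⟩
  · rcases eq_or_ne u 1 with rfl | hu1
    · exact one_mem _
    · exact hmem u (c.conj_of_mem hu hu1)
  · refine (Subgroup.closure_le _).mpr ?_
    rintro _ ⟨g, rfl, -⟩
    exact hmem _ ((c.conj_of_mem hv hv1).trans (isConj_iff.mpr ⟨g, rfl⟩))

end Sc

/-- A perfect central extension of the first Janko group is trivial. -/
theorem center_eq_bot_of_quot {Γ : Type u} [Group Γ] [Finite Γ] (hperf : commutator Γ = ⊤)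
    (e : (Γ ⧸ Subgroup.center Γ) ≃* J1G) : Subgroup.center Γ = ⊥ := by
  let ψ : Shrink.{0} Γ ≃* Γ := Shrink.mulEquiv
  haveI : Finite (Shrink.{0} Γ) := Finite.of_equiv Γ ψ.symm.toEquiv
  let σ : Shrink.{0} Γ →* J1G :=
    e.toMonoidHom.comp ((QuotientGroup.mk' (Subgroup.center Γ)).comp ψ.toMonoidHom)
  have hker : ∀ x, x ∈ σ.ker ↔ ψ x ∈ Subgroup.center Γ := fun x => by
    rw [MonoidHom.mem_ker]
    show e (QuotientGroup.mk' (Subgroup.center Γ) (ψ x)) = 1 ↔ _
    rw [MulEquiv.map_eq_one_iff, ← MonoidHom.mem_ker, QuotientGroup.ker_mk']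
  have hσ : Cfsg.IsStemExtension σ := by
    refine ⟨e.surjective.comp ((QuotientGroup.mk'_surjective _).comp ψ.surjective), fun x hx => ?_,
      fun x _ => ?_⟩
    · refine Subgroup.mem_center_iff.mpr fun y => ψ.injective ?_
      rw [map_mul, map_mul]
      exact Subgroup.mem_center_iff.mp ((hker x).mp hx) (ψ y)
    · have : (commutator Γ).map ψ.symm.toMonoidHom = commutator (Shrink.{0} Γ) := by
        rw [commutator_def, commutator_def, Subgroup.map_commutator, Subgroup.map_top_of_surjective _ ψ.symm.surjective]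
      rw [← this, hperf, Subgroup.map_top_of_surjective _ ψ.symm.surjective]
      trivial
  have h := StemExt.ker_eq_bot_of_hasCyclicSchurMultiplier_one Cfsg.Agent.S2039.result σ hσ
  rw [eq_bot_iff]
  intro z hz
  have h1 : ψ.symm z ∈ σ.ker := (hker _).mpr (by simpa using hz)
  rw [h, Subgroup.mem_bot] at h1
  simpa using congrArg ψ h1

theorem odd_normal_bot (P : Subgroup (Z2 × A5)) [P.Normal] (hP : Odd (Nat.card P)) : P = ⊥ := by
  rw [Subgroup.eq_bot_iff_forall]
  rintro ⟨z, a⟩ hza
  have h15 : ((z, a) : Z2 × A5) ^ 15 = 1 := by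
    have ho : Odd (orderOf ((z, a) : Z2 × A5)) :=
      hP.of_dvd_nat (Subgroup.orderOf_dvd_natCard P hza)
    obtain ⟨k, hk⟩ := ho
    have h30 : ((z, a) : Z2 × A5) ^ 30 = 1 := Prod.ext (by
      show z ^ 30 = 1
      rw [show (30 : ℕ) = 2 * 15 by rfl, pow_mul, pow_two, z2_facts.2.2.2.2 z, one_pow])
      ((show ∀ a : A5, a ^ 30 = 1 by decide +kernel) a)
    have hd := orderOf_dvd_of_pow_eq_one h30
    refine orderOf_dvd_iff_pow_eq_one.mp ?_
    have hcop : Nat.Coprime (orderOf ((z, a) : Z2 × A5)) 2 := Nat.coprime_two_right.mpr ⟨k, hk⟩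
    exact hcop.dvd_of_dvd_mul_left (m := 2) (by exact hd)
  obtain rfl := z2_facts.2.2.2.1 z (congrArg Prod.fst h15)
  by_contra hne
  have ha : a ≠ 1 := fun e => hne (by rw [e]; rfl)
  obtain ⟨x, y, r, u, hxy⟩ := invol_prod a (congrArg Prod.snd h15) ha
  have hm : ∀ w : A5, ((1 : Z2), w * a * w⁻¹) ∈ P := fun w => by
    simpa using (inferInstance : P.Normal).conj_mem _ hza (1, w)
  have h2 := P.mul_mem (P.mul_mem (hm x) (hm y)) (P.mul_mem (hm r) (hm u))
  simp only [Prod.mk_mul_mk, one_mul] at h2
  rw [hxy] at h2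
  have ho : orderOf ((1 : Z2), JOneUnique.va) = 2 :=
    Invol.orderOf_two_of_mul_self (Prod.ext (one_mul 1) klein_facts.1)
      (fun e => klein_facts.2.2.2.1 (congrArg Prod.snd e))
  have := Subgroup.orderOf_dvd_natCard P h2
  rw [ho] at this
  obtain ⟨k, hk⟩ := hP
  omega

theorem Sc.ind_of {t : G} {S : Sylow 2 G} (c : Sc t S) (n : ℕ) (hn : Nat.card G = n)
    (IH : ∀ m < n, ∀ (H : Type u) [Group H] [Finite H], Nat.card H = m → ∀ s : H, Hyp s →
      Nonempty (↥(Subgroup.normalClosure ({s} : Set H)) ≃* J1G)) : Ind t S := by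
  intro H hH hg
  have hle : Nat.card H ≤ Nat.card G := Subgroup.card_le_card_group H
  have hne : Nat.card H ≠ Nat.card G := fun e => hH (Subgroup.eq_top_of_card_eq H e)
  obtain ⟨e⟩ := IH (Nat.card H) (by omega) H rfl (⟨t, c.t_mem_good hg⟩ : H) (c.hyp_good hg)
  have e1 := (Subgroup.normalClosure ({(⟨t, c.t_mem_good hg⟩ : H)} : Set H)).equivMapOfInjective _
    H.subtype_injective
  have e2 := MulEquiv.subgroupCongr (c.normalClosure_good hg)
  exact ⟨(e1.trans e2).symm.trans e⟩

/-- The statement by induction on the order. -/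
theorem aux (n : ℕ) : ∀ (G : Type u) [Group G] [Finite G], Nat.card G = n → ∀ t : G, Hyp t →
    Nonempty (↥(Subgroup.normalClosure ({t} : Set G)) ≃* J1G) := by
  induction n using Nat.strong_induction_on with
  | _ n IH =>
    intro G _ _ hn t ht
    obtain ⟨S, c⟩ := ht.exists_sc
    have hind : Ind t S := c.ind_of n hn IH
    rw [c.normalClosure_eq_cls]
    by_cases hgen : cls t ⊤ = ⊤
    · by_cases hZ : Subgroup.center G = ⊥
      · obtain ⟨hSV, hCW⟩ := c.endgame hind hZ hgen
        haveI : Nontrivial G := ⟨⟨t, 1, c.hyp.t_ne⟩⟩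
        haveI : IsSimpleGroup G := ⟨fun N hN => by
          haveI := hN
          by_contra hcon
          push Not at hcon
          -- `N` misses `V`
          have hNV : ∀ v ∈ Vs t S, v ∈ N → v = 1 := by
            intro v hv hvN
            by_contra hv1
            refine hcon.2 (top_le_iff.mp (hgen ▸ (Subgroup.closure_le _).mpr ?_))
            rintro _ ⟨k, -, rfl⟩
            obtain ⟨g, hg⟩ := isConj_iff.mp ((c.conj_of_mem hv hv1).symm.trans (isConj_iff.mpr ⟨k, rfl⟩))
            exact hg ▸ hN.conj_mem v hvN g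
          have hodd : Odd (Nat.card N) := by
            rcases Nat.even_or_odd (Nat.card N) with he | ho
            · exfalso
              haveI : Fact (Nat.Prime 2) := ⟨Nat.prime_two⟩
              obtain ⟨⟨z, hz⟩, hzo⟩ := exists_prime_orderOf_dvd_card' 2 (even_iff_two_dvd.mp he)
              rw [Subgroup.orderOf_mk] at hzo
              obtain ⟨k, hk⟩ := Transfer.exists_map_conj_le_sylow (X := Subgroup.zpowers z)
                (IsPGroup.of_card (n := 1) (by rw [Nat.card_zpowers, hzo, pow_one])) S
              have h1 := hk ⟨z, Subgroup.mem_zpowers z, rfl⟩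
              change k * z * k⁻¹ ∈ (S : Subgroup G) at h1
              rw [hSV] at h1
              have := hNV _ h1 (hN.conj_mem z hz k)
              rw [conj_eq_one_iff] at this
              rw [this, orderOf_one] at hzo
              omega
            · exact ho
          -- so it is generated by trivial centralizers
          refine hcon.1 (le_bot_iff.mp ?_)
          obtain ⟨v, hv, hvne⟩ : ∃ v ∈ Vs t S, v ∉ Subgroup.zpowers t := by
            by_contra hc
            push Not at hc
            have h8 := Subgroup.card_le_of_le (show Vs t S ≤ Subgroup.zpowers t from hc)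
            rw [c.card_V, Nat.card_zpowers, c.hyp.ord] at h8
            omega
          haveI : IsMulCommutative (Vs t S) := ⟨⟨fun a b => Subtype.ext (c.V_comm a.2 b.2).eq⟩⟩
          refine Coprime.le_of_centralizer_le (A := Vs t S)
            (Coprime.not_isCyclic_of_exponent (p := 2) (fun a ha => (pow_two a).trans (c.V_sq ha))
              (by norm_num) (by rw [c.card_V]; norm_num)) ?_ ?_ ?_
          · intro a _; rw [Subgroup.normalizer_eq_top]; trivial
          · rw [c.card_V, show (8 : ℕ) = 2 ^ 3 by norm_num]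
            exact Nat.Coprime.pow_left 3 (Nat.coprime_two_left.mpr hodd)
          · intro g hg hg1 z hz
            rw [Subgroup.mem_bot]
            obtain ⟨k, hk⟩ := isConj_iff.mp (c.conj_of_mem hg hg1)
            have hzt : k⁻¹ * z * k ∈ W t := by
              rw [← hCW, Subgroup.mem_centralizer_singleton_iff]
              have := Subgroup.mem_centralizer_singleton_iff.mp hz.2
              rw [← hk] at this
              calc k⁻¹ * z * k * t = k⁻¹ * (z * (k * t * k⁻¹)) * k := by group
                _ = k⁻¹ * (k * t * k⁻¹ * z) * k := by rw [this]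
                _ = t * (k⁻¹ * z * k) := by group
            have hzN : k⁻¹ * z * k ∈ N := by simpa using hN.conj_mem z hz.1 k⁻¹
            -- an odd normal subgroup of `W` is trivial
            have hWN : ∀ x ∈ W t, x ∈ N → x = 1 := by
              intro x hx hxN
              refine (c.hyp.eq_one_or_t_of_center hx fun y hy => ?_).resolve_right
                fun e => c.hyp.t_ne (hNV t c.t_mem_V (e ▸ hxN))
              set φ := ht.iso.some
              set P : Subgroup (Z2 × A5) := (N.subgroupOf (W t)).map φ.toMonoidHom with hP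
              haveI : P.Normal := Subgroup.Normal.map inferInstance _ φ.surjective
              have hPo : Odd (Nat.card P) := by
                rw [hP, Subgroup.card_map_of_injective φ.injective]
                refine hodd.of_dvd_nat ?_
                rw [← Subgroup.card_map_of_injective (W t).subtype_injective, Subgroup.subgroupOf_map_subtype]
                exact Subgroup.card_dvd_of_le inf_le_left
              have hbot : P = ⊥ := odd_normal_bot P hPo
              have : φ ⟨x, hx⟩ ∈ P := ⟨⟨x, hx⟩, hxN, rfl⟩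
              rw [hbot, Subgroup.mem_bot, MulEquiv.map_eq_one_iff] at this
              have hx1 : x = 1 := congrArg Subtype.val this
              rw [hx1]; exact Commute.one_left y
            have := hWN _ hzt hzN
            calc z = k * (k⁻¹ * z * k) * k⁻¹ := by group
              _ = 1 := by rw [this]; group⟩
        obtain ⟨i⟩ := c.hyp.iso
        have hmc : IsMulCommutative (S : Subgroup G) :=
          ⟨⟨fun a b => Subtype.ext (c.V_comm (hSV.le a.2) (hSV.le b.2)).eq⟩⟩
        obtain ⟨j⟩ := Cfsg.Agent.S1644.result S hmc (by rw [hSV]; exact c.card_V) t c.hyp.ord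
          ((MulEquiv.subgroupCongr hCW).trans i)
        rw [hgen]
        exact ⟨Subgroup.topEquiv.trans j⟩
      · exfalso
        haveI : Nontrivial (Subgroup.center G) := (Subgroup.nontrivial_iff_ne_bot _).mpr hZ
        have hlt : Nat.card (G ⧸ Subgroup.center G) < n := by
          rw [← Subgroup.index_eq_card, ← hn]
          have h1 := Subgroup.card_mul_index (Subgroup.center G)
          have h2 : 1 < Nat.card (Subgroup.center G) := Finite.one_lt_card
          have h3 : 0 < (Subgroup.center G).index := Nat.pos_of_ne_zero Subgroup.index_ne_zero_of_finite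
          rw [← h1]
          exact lt_mul_of_one_lt_left h3 h2
        obtain ⟨e⟩ := IH _ hlt _ rfl _ c.hyp_quot
        have htop : Subgroup.normalClosure ({QuotientGroup.mk' (Subgroup.center G) t} : Set _) = ⊤ := by
          rw [show ({QuotientGroup.mk' (Subgroup.center G) t} : Set _) =
            QuotientGroup.mk' (Subgroup.center G) '' {t} by simp,
            ← Subgroup.map_normalClosure _ _ (QuotientGroup.mk'_surjective _), c.normalClosure_eq_cls,
            hgen, Subgroup.map_top_of_surjective _ (QuotientGroup.mk'_surjective _)]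
        exact hZ (center_eq_bot_of_quot (c.perfect hgen)
          ((Subgroup.topEquiv.symm.trans (MulEquiv.subgroupCongr htop.symm)).trans e))
    · obtain ⟨e⟩ := hind (cls t ⊤) hgen c.good_normalClosure
      have heq : cls t (cls t ⊤) = cls t ⊤ := by
        refine le_antisymm (c.cls_le c.good_normalClosure) ((Subgroup.closure_le _).mpr ?_)
        rintro _ ⟨k, -, rfl⟩
        exact c.mem_cls c.good_normalClosure (Subgroup.subset_closure ⟨k, trivial, rfl⟩)
          (isConj_iff.mpr ⟨k, rfl⟩)
      exact ⟨(MulEquiv.subgroupCongr heq.symm).trans e⟩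

/-- The first Janko group by weak closure. -/
theorem main {G : Type u} [Group G] [Finite G] {t : G} (h : Hyp t) :
    Cfsg.Spor.IsoJ1 ↥(Subgroup.normalClosure ({t} : Set G)) :=
  aux (Nat.card G) G rfl t h

end CfsgLib.JOneWeak
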