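import Cfsg.Agent.Lib.JOneWeak.Decomp
import Cfsg.Agent.Lib.JOneWeak.Facts
import Cfsg.Agent.Lib.ZStar.Main
import Cfsg.Agent.Lib.ZStar.IsolatedConseq
import Cfsg.Agent.Lib.Coprime.Generation
import Cfsg.Agent.S2065

/-!
No proper subgroup contains all the centralizers of the involutions of `V` and its normalizer.
-/

set_option autoImplicit false
set_option linter.style.haveILetI false
set_option linter.unusedSectionVars false

namespace CfsgLib.JOneWeak

open CfsgLib.JOneOrder

/-- The first Janko group. -/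
abbrev J1G : Type := ↥Cfsg.Spor.J1

variable {G : Type*} [Group G] [Finite G]

/-- The inductive hypothesis. -/
def Ind (t : G) (S : Sylow 2 G) : Prop :=
  ∀ H : Subgroup G, H ≠ ⊤ → Good t S H → Nonempty (↥(cls t H) ≃* J1G)

/-- Conjugation is an isomorphism of the first Janko group with its automorphism group. -/
theorem conj_bijective : Function.Bijective (MulAut.conj : J1G →* MulAut J1G) := by
  constructor
  · rw [← MonoidHom.ker_eq_bot_iff]
    haveI := CfsgLib.J1.isSimple
    refine (Subgroup.Normal.eq_bot_or_eq_top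
      (inferInstance : (MulAut.conj : J1G →* MulAut J1G).ker.Normal)).resolve_right fun htop => ?_
    have hcomm : ∀ a b : J1G, a * b = b * a := fun a b => by
      have h1 : MulAut.conj a = (1 : MulAut J1G) := MonoidHom.mem_ker.mp (htop ▸ Subgroup.mem_top a)
      have h2 : a * b * a⁻¹ = b := DFunLike.congr_fun h1 b
      exact mul_inv_eq_iff_eq_mul.mp h2
    obtain ⟨a, ha⟩ : ∃ a : J1G, orderOf a = 3 := ⟨_, CfsgLib.J1.elem3⟩
    obtain ⟨b, hb⟩ : ∃ b : J1G, orderOf b = 7 := ⟨_, CfsgLib.J1.elem7⟩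
    have h21 : orderOf (a * b) = 21 := by
      rw [(show Commute a b from hcomm a b).orderOf_mul_eq_mul_orderOf_of_coprime (by rw [ha, hb]; norm_num),
        ha, hb]
    have := CfsgLib.J1.orderOf_mem (a * b)
    rw [h21] at this
    revert this
    decide
  · intro φ
    haveI := (Nat.card_eq_one_iff_unique.mp Cfsg.Agent.S2065.result).1
    exact (QuotientGroup.eq_one_iff (N := Cfsg.Inn J1G) φ).mp (Subsingleton.elim _ _)

namespace Sc

variable {t : G} {S : Sylow 2 G} (c : Sc t S)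
include c

theorem good_of_centralizers {M : Subgroup G}
    (hC : ∀ v ∈ Vs t S, v ≠ 1 → Subgroup.centralizer ({v} : Set G) ≤ M) : Good t S M :=
  ⟨fun _ hu => hC t c.t_mem_V c.hyp.t_ne
      (Subgroup.mem_centralizer_singleton_iff.mpr (c.V_comm hu c.t_mem_V).eq),
    fun v hv hv1 _ hl => hC v hv hv1 (W_le_centralizer v ((c.hyp_at hv hv1).L_le_W hl))⟩

theorem L_le_centralizer_R {r v : G} (hr : r ∈ Rs t S) (hv : v ∈ Vs t S) (hv1 : v ≠ 1) :
    L v ≤ Subgroup.centralizer ({r} : Set G) := fun l hl =>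
  Subgroup.mem_centralizer_singleton_iff.mpr
    (Subgroup.mem_centralizer_iff.mp (c.R_le_D hr hv hv1) l ((c.hyp_at hv hv1).L_le_W hl))

theorem conj_invol_mem_V {H : Subgroup G} (hV : Vs t S ≤ H) {z : G} (hz : z ∈ H) (hz2 : orderOf z = 2) :
    ∃ k ∈ H, k * z * k⁻¹ ∈ Cs t S := by
  haveI : Fact (Nat.Prime 2) := ⟨Nat.prime_two⟩
  obtain ⟨P, hP⟩ := c.exists_sylow_sub hV
  have hp : IsPGroup 2 (Subgroup.zpowers (⟨z, hz⟩ : H)) :=
    IsPGroup.of_card (n := 1) (by rw [Nat.card_zpowers, Subgroup.orderOf_mk, hz2, pow_one])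
  obtain ⟨k, hk⟩ := Transfer.exists_map_conj_le_sylow hp P
  exact ⟨k, k.2, (c.two_sub (P.2.map _) hP).1 ⟨_, hk ⟨_, Subgroup.mem_zpowers _, rfl⟩, rfl⟩⟩

/-- Subgroups between two good subgroups have the same class. -/
theorem cls_eq (hind : Ind t S) {J H : Subgroup G} (hJ : J ≠ ⊤) (hH : H ≠ ⊤) (hJg : Good t S J)
    (hHg : Good t S H) (hle : J ≤ H) : cls t J = cls t H := by
  obtain ⟨e1⟩ := hind J hJ hJg
  obtain ⟨e2⟩ := hind H hH hHg
  refine Subgroup.eq_of_le_of_card_ge (Subgroup.closure_mono fun y ⟨k, hk, hy⟩ => ⟨k, hle hk, hy⟩)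
    (le_of_eq ?_)
  rw [Nat.card_congr e1.toEquiv, Nat.card_congr e2.toEquiv]

/-- The key statement. -/
theorem no_proper (hind : Ind t S) (hZ : Subgroup.center G = ⊥) (hgen : cls t ⊤ = ⊤)
    {M : Subgroup G} (hC : ∀ v ∈ Vs t S, v ≠ 1 → Subgroup.centralizer ({v} : Set G) ≤ M)
    (hN : Ns t S ≤ M) : M = ⊤ := by
  classical
  by_contra hne
  have hM : Good t S M := c.good_of_centralizers hC
  have htM : t ∈ M := c.t_mem_good hM
  -- fixed points
  have hself : ∀ g : G, g * t * g⁻¹ ∈ M → g ∈ M := by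
    intro g hg
    obtain ⟨k, hk, e⟩ := c.mem_class hM hg (isConj_iff.mpr ⟨g, rfl⟩)
    have h1 : k⁻¹ * g ∈ M := hC t c.t_mem_V c.hyp.t_ne (Subgroup.mem_centralizer_singleton_iff.mpr (by
      calc k⁻¹ * g * t = k⁻¹ * (g * t * g⁻¹) * g := by group
        _ = k⁻¹ * (k * t * k⁻¹) * g := by rw [e]
        _ = t * (k⁻¹ * g) := by group))
    simpa using M.mul_mem hk h1
  have hne_top : ∀ r : G, r ≠ 1 → Subgroup.centralizer ({r} : Set G) ≠ ⊤ := by
    intro r hr e
    have : r ∈ Subgroup.center G := Subgroup.mem_center_iff.mpr fun g =>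
      Subgroup.mem_centralizer_singleton_iff.mp (e ▸ Subgroup.mem_top g)
    rw [hZ, Subgroup.mem_bot] at this
    exact hr this
  -- conjugates of `t` commuting with an involution of `M`
  have hclaim : ∀ z ∈ M, orderOf z = 2 → ∀ y, IsConj t y → Commute y z → y ∈ M := by
    suffices hs : ∀ s ∈ Cs t S, orderOf s = 2 → ∀ y, IsConj t y → Commute y s → y ∈ M by
      intro z hz hz2 y hy hyz
      obtain ⟨k, hk, hks⟩ := c.conj_invol_mem_V hM.1 hz hz2
      have h := hs _ hks ((conj_orderOf k).trans hz2) (k * y * k⁻¹)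
        (hy.trans (isConj_iff.mpr ⟨k, rfl⟩)) (hyz.map (MulAut.conj k).toMonoidHom)
      have h' := M.mul_mem (M.mul_mem (M.inv_mem hk) h) hk
      rwa [show k⁻¹ * (k * y * k⁻¹) * k = y by group] at h'
    intro s hs hs2 y hy hys
    obtain ⟨v, hv, hr⟩ := c.decomp hs
    set r := s * v with hr'
    have hsv : Commute s v := (Subgroup.mem_centralizer_iff.mp hs v hv).symm
    have hvv : v * v = 1 := c.V_sq hv
    have hsr : s = r * v := by rw [hr', mul_assoc, hvv, mul_one]
    by_cases hr1 : r = 1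
    · have hsv' : s = v := by rw [hsr, hr1, one_mul]
      have hv1 : v ≠ 1 := fun e => Invol.ne_one_of_orderOf_two hs2 (hsv'.trans e)
      exact hC v hv hv1 (Subgroup.mem_centralizer_singleton_iff.mpr (hsv' ▸ hys.eq))
    set H := Subgroup.centralizer ({s} : Set G) with hH
    have hV : Vs t S ≤ H := fun u hu =>
      Subgroup.mem_centralizer_singleton_iff.mpr (Subgroup.mem_centralizer_iff.mp hs u hu)
    have hyH : y ∈ H := Subgroup.mem_centralizer_singleton_iff.mpr hys.eq
    by_cases hv1 : v = 1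
    · have hsr' : s = r := by rw [hsr, hv1, mul_one]
      have hHg : Good t S H := ⟨hV, fun u hu hu1 => by
        rw [hH, hsr']; exact c.L_le_centralizer_R hr hu hu1⟩
      have hJg : Good t S (M ⊓ H) :=
        ⟨le_inf hM.1 hV, fun u hu hu1 => le_inf (hM.2 u hu hu1) (hHg.2 u hu hu1)⟩
      have hJne : M ⊓ H ≠ ⊤ := fun e => hne (top_le_iff.mp (e ▸ inf_le_left))
      have hHne : H ≠ ⊤ := hne_top s (Invol.ne_one_of_orderOf_two hs2)
      have he := c.cls_eq hind hJne hHne hJg hHg inf_le_right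
      exact (c.cls_le hJg (he ▸ c.mem_cls hHg hyH hy)).1
    -- `v` is isolated in `H`
    have hvH : v ∈ H := hV hv
    have hfix : ∀ n ∈ H ⊓ Ns t S, n * v * n⁻¹ = v := by
      intro n hn
      have h1 : (n * r * n⁻¹) * (n * v * n⁻¹) = r * v := by
        rw [← hsr, show n * r * n⁻¹ * (n * v * n⁻¹) = n * (r * v) * n⁻¹ by group, ← hsr]
        exact conj_fix (Subgroup.mem_centralizer_singleton_iff.mp hn.1)
      have h2 : r⁻¹ * (n * r * n⁻¹) = v * (n * v * n⁻¹)⁻¹ := by
        calc r⁻¹ * (n * r * n⁻¹) = r⁻¹ * ((n * r * n⁻¹) * (n * v * n⁻¹)) * (n * v * n⁻¹)⁻¹ := by group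
          _ = v * (n * v * n⁻¹)⁻¹ := by rw [h1]; group
      have hR := (Rs t S).mul_mem ((Rs t S).inv_mem hr) (c.R_invariant hn.2 hr)
      have := c.R_inf_V hR (h2 ▸ (Vs t S).mul_mem hv ((Vs t S).inv_mem (c.Ns_conj hn.2 hv)))
      rw [h2] at this
      exact (mul_inv_eq_one.mp this).symm
    have hiso : Cfsg.IsIsolatedInvolution (⟨v, hvH⟩ : H) := by
      refine ⟨(Subgroup.orderOf_mk _ _).trans (c.V_orderOf hv hv1), fun g hg => Subtype.ext ?_⟩
      show (g : G) * v * (g : G)⁻¹ = v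
      have hcv : Commute v ((g : G) * v * (g : G)⁻¹) := congrArg Subtype.val hg.eq
      have hV2 : Vs t S ≤ H ⊓ Subgroup.centralizer ({v} : Set G) := le_inf hV fun u hu =>
        Subgroup.mem_centralizer_singleton_iff.mpr (c.V_comm hu hv).eq
      obtain ⟨k, hk, hkV⟩ := c.class_in hV2 (y := (g : G) * v * (g : G)⁻¹)
        ⟨H.mul_mem (H.mul_mem g.2 hvH) (H.inv_mem g.2),
          Subgroup.mem_centralizer_singleton_iff.mpr hcv.symm.eq⟩
        ((c.conj_of_mem hv hv1).trans (isConj_iff.mpr ⟨(g : G), rfl⟩))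
      have hkg : k * (g : G) * v * (k * (g : G))⁻¹ ∈ Vs t S := by
        rwa [show k * (g : G) * v * (k * (g : G))⁻¹ = k * ((g : G) * v * (g : G)⁻¹) * k⁻¹ by group]
      obtain ⟨n, hn, hne'⟩ := c.fusion_in hV (H.mul_mem hk.1 g.2) hv hkg
      rw [hfix n hn] at hne'
      have hkv : k * v * k⁻¹ = v := conj_fix (Subgroup.mem_centralizer_singleton_iff.mp hk.2)
      apply mul_left_cancel (a := k)
      apply mul_right_cancel (b := k⁻¹)
      rw [hkv]
      exact (hne'.trans (by group)).symm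
    have hcore := ZStar.commutatorsInCore_of_isolated hiso
    set O : Subgroup G := (Cfsg.pPrimeCore 2 H).map H.subtype with hO
    have hHM : H ≤ M := by
      have hOM : O ≤ M := by
        set A : Subgroup G := Vs t S ⊓ L t with hA
        haveI : IsMulCommutative A := ⟨⟨fun a b => Subtype.ext (c.V_comm a.2.1 b.2.1).eq⟩⟩
        have hAc : Nat.card A = 4 := by
          let f : A ⊕ A → Vs t S := Sum.elim (fun a => ⟨a, a.2.1⟩)
            (fun a => ⟨t * a, (Vs t S).mul_mem c.t_mem_V a.2.1⟩)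
          have hf : Function.Bijective f := by
            refine ⟨?_, fun ⟨u, hu⟩ => ?_⟩
            · rintro (a | a) (b | b) e <;> have e' := congrArg Subtype.val e <;> simp [f] at e'
              · exact congrArg Sum.inl e'
              · exfalso
                have := (L t).mul_mem a.2.2 ((L t).inv_mem b.2.2)
                rw [e', mul_inv_cancel_right] at this
                exact c.hyp.t_notMem_L this
              · exfalso
                have := (L t).mul_mem b.2.2 ((L t).inv_mem a.2.2)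
                rw [← e', mul_inv_cancel_right] at this
                exact c.hyp.t_notMem_L this
              · exact congrArg Sum.inr e'
            · rcases c.mem_or_mul_mem hu with hL | hL
              · exact ⟨Sum.inl ⟨u, hu, hL⟩, rfl⟩
              · refine ⟨Sum.inr ⟨t * u, (Vs t S).mul_mem c.t_mem_V hu, hL⟩, Subtype.ext ?_⟩
                show t * (t * u) = u
                rw [← mul_assoc, c.hyp.t_sq, one_mul]
          have := Nat.card_eq_of_bijective f hf
          rw [Nat.card_sum, c.card_V] at this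
          omega
        refine Coprime.le_of_centralizer_le (A := A)
          (Coprime.not_isCyclic_of_exponent (p := 2) (fun a ha => (pow_two a).trans (c.V_sq ha.1))
            (by norm_num) (by omega)) ?_ ?_ fun a ha ha1 z hz => hC a ha.1 ha1 hz.2
        · intro a ha
          refine Subgroup.mem_normalizer_iff.mpr fun z => ?_
          have key : ∀ b ∈ H, ∀ z ∈ O, b * z * b⁻¹ ∈ O := by
            rintro b hb _ ⟨z, hz, rfl⟩
            exact ⟨⟨b, hb⟩ * z * ⟨b, hb⟩⁻¹,
              (Transfer.pPrimeCore_normal 2 H).conj_mem z hz ⟨b, hb⟩, rfl⟩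
          refine ⟨fun hz => key a (hV ha.1) z hz, fun hz => ?_⟩
          have := key a⁻¹ (H.inv_mem (hV ha.1)) _ hz
          simpa [mul_assoc] using this
        · rw [hAc, hO, Subgroup.card_map_of_injective H.subtype_injective]
          exact Nat.Coprime.pow_left 2 (Nat.coprime_two_left.mpr ZStar.odd_card_core)
      intro h hh
      set OV : Subgroup H := Cfsg.pPrimeCore 2 H ⊔ Subgroup.zpowers (⟨v, hvH⟩ : H)
      have hvOV : (⟨v, hvH⟩ : H) ∈ OV := Subgroup.mem_sup_right (Subgroup.mem_zpowers _)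
      have hmem : (⟨h, hh⟩ : H) * ⟨v, hvH⟩ * ⟨h, hh⟩⁻¹ ∈ OV := by
        have h1 : (⟨v, hvH⟩ : H) * ⟨h, hh⟩ * ⟨v, hvH⟩⁻¹ * ⟨h, hh⟩⁻¹ ∈ OV :=
          Subgroup.mem_sup_left (hcore ⟨h, hh⟩)
        have h2 := OV.mul_mem (OV.inv_mem hvOV) h1
        have hvinv : (⟨v, hvH⟩ : H)⁻¹ = ⟨v, hvH⟩ := inv_eq_of_mul_eq_one_right (Subtype.ext hvv)
        rw [show (⟨v, hvH⟩ : H)⁻¹ * (⟨v, hvH⟩ * ⟨h, hh⟩ * ⟨v, hvH⟩⁻¹ * ⟨h, hh⟩⁻¹) =
          ⟨h, hh⟩ * ⟨v, hvH⟩⁻¹ * ⟨h, hh⟩⁻¹ by group, hvinv] at h2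
        exact h2
      obtain ⟨n, hn, hne'⟩ := ZStar.exists_mem_conj_of_mem hiso hvOV
        (isConj_iff.mpr ⟨⟨h, hh⟩, rfl⟩) hmem
      have hle : OV.map H.subtype ≤ M := by
        rw [Subgroup.map_sup, MonoidHom.map_zpowers]
        exact sup_le hOM (Subgroup.zpowers_le.mpr (hM.1 hv))
      have hnM : (n : G) ∈ M := hle ⟨n, hn, rfl⟩
      have hc : (n : G)⁻¹ * h ∈ Subgroup.centralizer ({v} : Set G) := by
        refine Subgroup.mem_centralizer_singleton_iff.mpr ?_
        have e : (n : G) * v * (n : G)⁻¹ = h * v * h⁻¹ := congrArg Subtype.val hne'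
        calc (n : G)⁻¹ * h * v = (n : G)⁻¹ * (h * v * h⁻¹) * h := by group
          _ = (n : G)⁻¹ * ((n : G) * v * (n : G)⁻¹) * h := by rw [e]
          _ = v * ((n : G)⁻¹ * h) := by group
      simpa using M.mul_mem hnM (hC v hv hv1 hc)
    exact hHM hyH
  -- intersections with conjugates have odd order
  have hodd : ∀ g z : G, z ∈ M → orderOf z = 2 → g * z * g⁻¹ ∈ M → g ∈ M := by
    intro g z hz hz2 hgz
    obtain ⟨k, hk, hks⟩ := c.conj_invol_mem_V hM.1 hgz ((conj_orderOf g).trans hz2)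
    have hct : Commute t (k * (g * z * g⁻¹) * k⁻¹) := Subgroup.mem_centralizer_iff.mp hks t c.t_mem_V
    have h0 := hct.map (MulAut.conj (g⁻¹ * k⁻¹)).toMonoidHom
    have h1 : Commute (g⁻¹ * k⁻¹ * t * (g⁻¹ * k⁻¹)⁻¹) z := by
      simpa [MulAut.conj_apply, mul_assoc] using h0
    have h2 := hself _ (hclaim z hz hz2 _ (isConj_iff.mpr ⟨g⁻¹ * k⁻¹, rfl⟩) h1)
    have := M.inv_mem (M.mul_mem h2 hk)
    simpa using this
  have hCM : ∀ z ∈ M, orderOf z = 2 → ∀ g, Commute g z → g ∈ M := fun z hz hz2 g hg =>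
    hodd g z hz hz2 (by rwa [conj_fix hg])
  obtain ⟨w, hwM, hwc⟩ : ∃ w, w ∉ M ∧ IsConj t w := by
    by_contra hcon
    push Not at hcon
    refine hne (top_le_iff.mp (hgen ▸ (Subgroup.closure_le _).mpr ?_))
    rintro _ ⟨k, -, rfl⟩
    by_contra hk
    exact hcon _ hk (isConj_iff.mpr ⟨k, rfl⟩)
  have ord_of : ∀ {y}, IsConj t y → orderOf y = 2 := fun {y} hy => by
    obtain ⟨g, rfl⟩ := isConj_iff.mp hy
    exact (conj_orderOf g).trans c.hyp.ord
  -- one class
  have hclass : ∀ z ∈ M, orderOf z = 2 → IsConj t z := by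
    intro z hz hz2
    refine hwc.trans ?_
    rcases Nat.even_or_odd (orderOf (z * w)) with he | ho
    · exfalso
      have hw2 := ord_of hwc
      have he2 := Invol.orderOf_centralInvol z w he
      have heM := hCM z hz hz2 _ (Invol.centralInvol_comm_left hz2 hw2 he)
      exact hwM (hCM _ heM he2 w (Invol.centralInvol_comm_right hz2 hw2 he).symm)
    · exact (Invol.isConj_of_odd hz2 (ord_of hwc) ho).symm
  -- the normal subgroup
  set K := cls t M with hK
  have hKM : K ≤ M := c.cls_le hM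
  obtain ⟨eK⟩ := hind M hne hM
  have hKinv : ∀ z ∈ M, orderOf z = 2 → z ∈ K := fun z hz hz2 => c.mem_cls hM hz (hclass z hz hz2)
  set K' : Subgroup M := K.subgroupOf M with hK'
  haveI : K'.Normal := ⟨by
    intro x hx m
    have hmap : K.map (MulAut.conj (m : G)).toMonoidHom ≤ K := by
      rw [hK, cls, MonoidHom.map_closure]
      refine Subgroup.closure_mono ?_
      rintro _ ⟨_, ⟨k, hk, rfl⟩, rfl⟩
      exact ⟨m * k, M.mul_mem m.2 hk, by simp [MulAut.conj_apply, mul_assoc]⟩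
    exact hmap ⟨_, hx, rfl⟩⟩
  let e' : K' ≃* J1G := (Subgroup.subgroupOfEquivOfLe hKM).trans eK
  let cJ : J1G ≃* MulAut J1G := MulEquiv.ofBijective MulAut.conj conj_bijective
  let θ : M →* J1G :=
    cJ.symm.toMonoidHom.comp ((MulAut.congr e').toMonoidHom.comp (MulAut.conjNormal (H := K')))
  have hθ : ∀ (m : M) (x : K'), θ m * e' x * (θ m)⁻¹ = e' (MulAut.conjNormal m x) := by
    intro m x
    have h1 : MulAut.conj (θ m) = (MulAut.congr e') (MulAut.conjNormal m) :=
      cJ.apply_symm_apply _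
    have h2 := DFunLike.congr_fun h1 (e' x)
    rw [MulAut.conj_apply] at h2
    rw [h2]
    simp [MulAut.congr]
  have hθK : ∀ (k : M) (hk : k ∈ K'), θ k = e' ⟨k, hk⟩ := by
    intro k hk
    apply cJ.injective
    refine MulEquiv.ext fun y => ?_
    obtain ⟨x, rfl⟩ := e'.surjective y
    show θ k * e' x * (θ k)⁻¹ = e' ⟨k, hk⟩ * e' x * (e' ⟨k, hk⟩)⁻¹
    rw [hθ, ← map_inv, ← map_mul, ← map_mul]
    exact congrArg e' (Subtype.ext (by simp))
  have hker : ∀ m : M, θ m = 1 → ∀ k ∈ K, Commute (m : G) k := by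
    intro m hm k hk
    have h1 := hθ m ⟨⟨k, hKM hk⟩, hk⟩
    rw [hm, one_mul, inv_one, mul_one] at h1
    exact mul_inv_eq_iff_eq_mul.mp (congrArg (fun z : K' => ((z : M) : G)) (e'.injective h1)).symm
  -- counting
  set I := {y : G // IsConj t y}
  set X := {y : G // IsConj t y ∧ y ∈ M}
  have hX : Nat.card X = 1463 := by
    rw [← card_invol]
    let f : X → {x : J1G // orderOf x = 2} := fun y =>
      ⟨e' ⟨⟨y, y.2.2⟩, c.mem_cls hM y.2.2 y.2.1⟩, by
        rw [MulEquiv.orderOf_eq, ← Subgroup.orderOf_coe, ← Subgroup.orderOf_coe]; exact ord_of y.2.1⟩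
    refine Nat.card_eq_of_bijective f ⟨fun a b h => ?_, fun ⟨x, hx⟩ => ?_⟩
    · exact Subtype.ext (congrArg (fun z : K' => ((z : M) : G)) (e'.injective (congrArg Subtype.val h)))
    · obtain ⟨z, rfl⟩ := e'.surjective x
      rw [MulEquiv.orderOf_eq, ← Subgroup.orderOf_coe, ← Subgroup.orderOf_coe] at hx
      exact ⟨⟨((z : M) : G), hclass _ (z : M).2 hx, (z : M).2⟩, rfl⟩
  let π : I → G ⧸ M := fun y => QuotientGroup.mk (isConj_iff.mp y.2).choose
  have hπ : ∀ (y : I) (g : G), (y : G) ∈ M.map (MulAut.conj g).toMonoidHom ↔ π y = QuotientGroup.mk g := by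
    intro y g
    have hk := (isConj_iff.mp y.2).choose_spec
    set k := (isConj_iff.mp y.2).choose
    show _ ↔ QuotientGroup.mk k = QuotientGroup.mk g
    rw [eq_comm, QuotientGroup.eq]
    constructor
    · intro hy
      refine hself _ ?_
      have := mem_of_conj_map hy
      rw [← hk] at this
      simpa [mul_assoc] using this
    · intro hg
      refine ⟨g⁻¹ * y * g, ?_, by simp [MulAut.conj_apply, mul_assoc]⟩
      rw [← hk, show g⁻¹ * (k * t * k⁻¹) * g = (g⁻¹ * k) * t * (g⁻¹ * k)⁻¹ by group]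
      exact M.mul_mem (M.mul_mem hg htM) (M.inv_mem hg)
  haveI : Fintype I := Fintype.ofFinite _
  haveI : Fintype (G ⧸ M) := Fintype.ofFinite _
  have hfib : ∀ q, Nat.card {y : I // π y = q} = 1463 := by
    intro q
    obtain ⟨g, rfl⟩ := QuotientGroup.mk_surjective q
    rw [← hX]
    let f : {y : I // π y = QuotientGroup.mk g} → X := fun y =>
      ⟨g⁻¹ * (y : I) * g, ((y : I).2).trans (isConj_iff.mpr ⟨g⁻¹, by group⟩),
        mem_of_conj_map ((hπ _ g).mpr y.2)⟩
    refine Nat.card_eq_of_bijective f ⟨fun a b h => ?_, fun x => ?_⟩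
    · exact Subtype.ext (Subtype.ext (mul_left_cancel (mul_right_cancel (congrArg Subtype.val h :))))
    · refine ⟨⟨⟨g * x * g⁻¹, x.2.1.trans (isConj_iff.mpr ⟨g, rfl⟩)⟩, (hπ _ g).mp ⟨x, x.2.2, rfl⟩⟩,
        Subtype.ext (show g⁻¹ * (g * (x : G) * g⁻¹) * g = (x : G) by group)⟩
  have hI : Nat.card I = Fintype.card (G ⧸ M) * 1463 := by
    rw [Nat.card_congr (Equiv.sigmaFiberEquiv π).symm, Nat.card_sigma, Finset.sum_congr rfl fun q _ => hfib q,
      Finset.sum_const, Finset.card_univ, smul_eq_mul]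
  let Out' := {y : I // (y : G) ∉ M}
  let Cos := {q : G ⧸ M // q ≠ QuotientGroup.mk 1}
  haveI : Fintype Out' := Fintype.ofFinite _
  haveI : Fintype Cos := Fintype.ofFinite _
  let F : Out' → Cos := fun y => ⟨QuotientGroup.mk ((y : I) : G), fun e => by
    rw [QuotientGroup.eq, mul_one] at e
    exact y.2 (inv_mem_iff.mp e)⟩
  haveI : Nonempty Cos := ⟨⟨QuotientGroup.mk w, fun e => by
    rw [QuotientGroup.eq, mul_one] at e
    exact hwM (inv_mem_iff.mp e)⟩⟩
  have hOut : Fintype.card Cos * 1463 ≤ Fintype.card Out' := by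
    have h1 : Fintype.card Out' + 1463 = Fintype.card I := by
      have h2 : Nat.card {y : I // (y : G) ∈ M} = 1463 := by
        rw [← hX]
        exact Nat.card_congr (Equiv.subtypeSubtypeEquivSubtypeInter _ _)
      have h3 := Nat.card_congr (Equiv.sumCompl (fun y : I => (y : G) ∈ M))
      rw [Nat.card_sum, h2] at h3
      rw [← Nat.card_eq_fintype_card, ← Nat.card_eq_fintype_card]
      change 1463 + Nat.card Out' = _ at h3
      omega
    have h5 : Fintype.card Cos + 1 = Fintype.card (G ⧸ M) := by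
      have h3 := Nat.card_congr (Equiv.sumCompl (fun q : G ⧸ M => q = QuotientGroup.mk 1))
      have h4 : Nat.card {q : G ⧸ M // q = QuotientGroup.mk 1} = 1 :=
        Nat.card_eq_one_iff_unique.mpr ⟨⟨fun a b => Subtype.ext (a.2.trans b.2.symm)⟩, ⟨⟨_, rfl⟩⟩⟩
      rw [Nat.card_sum, h4] at h3
      rw [← Nat.card_eq_fintype_card, ← Nat.card_eq_fintype_card]
      change 1 + Nat.card Cos = _ at h3
      omega
    rw [Nat.card_eq_fintype_card] at hI
    have := congrArg (· * 1463) h5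
    simp only [add_mul] at this
    omega
  obtain ⟨⟨q, hq⟩, hcard⟩ := Fintype.exists_le_card_fiber_of_mul_le_card F hOut
  obtain ⟨⟨⟨w0, hw0⟩, hw0M⟩, hw0F⟩ := Finset.card_pos.mp (lt_of_lt_of_le (by norm_num) hcard)
  rw [Finset.mem_filter] at hw0F
  have hw2 := ord_of hw0
  have hww : w0 * w0 = 1 := Invol.mul_self_of_orderOf_two hw2
  have hwi : w0⁻¹ = w0 := Invol.inv_of_orderOf_two hw2
  set D0 : Subgroup M := (M.map (MulAut.conj w0).toMonoidHom).subgroupOf M with hD0
  have hD0mem : ∀ d : M, d ∈ D0 ↔ w0 * (d : G) * w0⁻¹ ∈ M := by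
    intro d
    constructor
    · intro h
      have := mem_of_conj_map h
      rw [hwi] at this ⊢
      exact this
    · intro h
      refine ⟨w0 * (d : G) * w0⁻¹, h, ?_⟩
      show w0 * (w0 * (d : G) * w0⁻¹) * w0⁻¹ = (d : G)
      rw [hwi, show w0 * (w0 * (d : G) * w0) * w0 = (w0 * w0) * d * (w0 * w0) by group, hww, one_mul,
        mul_one]
  have hDodd : Odd (Nat.card D0) := by
    rcases Nat.even_or_odd (Nat.card D0) with he | ho
    · exfalso
      haveI : Fact (Nat.Prime 2) := ⟨Nat.prime_two⟩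
      obtain ⟨⟨d, hd⟩, hdo⟩ := exists_prime_orderOf_dvd_card' 2 (even_iff_two_dvd.mp he)
      rw [Subgroup.orderOf_mk, ← Subgroup.orderOf_coe] at hdo
      exact hw0M (hodd w0 d d.2 hdo ((hD0mem d).mp hd))
    · exact ho
  have hbig : 1463 ≤ Nat.card D0 := by
    refine hcard.trans ?_
    haveI : Fintype D0 := Fintype.ofFinite _
    rw [Nat.card_eq_fintype_card]
    let fib := {x : Out' // x ∈ (Finset.univ.filter fun x => F x = ⟨q, hq⟩)}
    rw [← Fintype.card_coe]
    have hmem : ∀ x : fib, w0 * ((x : Out') : I).1 ∈ M := by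
      intro x
      have h1 : F x = F ⟨⟨w0, hw0⟩, hw0M⟩ :=
        ((Finset.mem_filter.mp x.2).2).trans hw0F.2.symm
      have h2 := QuotientGroup.eq.mp (congrArg Subtype.val h1).symm
      change w0⁻¹ * ((x : Out') : I).1 ∈ M at h2
      rwa [hwi] at h2
    refine Fintype.card_le_of_injective (fun x : fib => (⟨⟨w0 * ((x : Out') : I).1, hmem x⟩, ?_⟩ : D0))
      fun a b h => ?_
    · rw [hD0mem]
      show w0 * (w0 * ((x : Out') : I).1) * w0⁻¹ ∈ M
      have hx2 : (((x : Out') : I).1)⁻¹ = ((x : Out') : I).1 := Invol.inv_of_orderOf_two (ord_of ((x : Out') : I).2)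
      rw [show w0 * (w0 * ((x : Out') : I).1) * w0⁻¹ = (w0 * w0) * ((x : Out') : I).1 * w0⁻¹ by group,
        hww, one_mul]
      have := M.inv_mem (hmem x)
      rwa [mul_inv_rev, hx2] at this
    · exact Subtype.ext (Subtype.ext (Subtype.ext (mul_left_cancel
        (congrArg (fun z : D0 => ((z : M) : G)) h :))))
  -- the image
  have hP := (odd_bounds (P := D0.map θ) (hDodd.of_dvd_nat (Subgroup.card_map_dvd _ _))).1
  let τ : D0 →* J1G := θ.comp
    { toFun := fun d => (⟨w0 * ((d : M) : G) * w0⁻¹, (hD0mem d).mp d.2⟩ : M)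
      map_one' := Subtype.ext (show w0 * ((1 : G)) * w0⁻¹ = (1 : G) by simp)
      map_mul' := fun a b => Subtype.ext (show w0 * (((a : M) : G) * ((b : M) : G)) * w0⁻¹ =
        w0 * ((a : M) : G) * w0⁻¹ * (w0 * ((b : M) : G) * w0⁻¹) by group) }
  set Kr : Subgroup D0 := (θ.comp D0.subtype).ker with hKr
  -- commuting with an involution forces triviality
  have hτ : ∀ d ∈ Kr, ∀ j : J1G, orderOf j = 2 → Commute (τ d) j → d = 1 := by
    intro d hd j hj hcj
    by_contra hd1
    obtain ⟨x, rfl⟩ := e'.surjective j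
    rw [MulEquiv.orderOf_eq, ← Subgroup.orderOf_coe, ← Subgroup.orderOf_coe] at hj
    set m : M := ⟨w0 * ((d : M) : G) * w0⁻¹, (hD0mem d).mp d.2⟩
    have h1 : MulAut.conjNormal m x = x := e'.injective ((hθ m x).symm.trans (conj_fix hcj))
    have h2 : w0 * ((d : M) : G) * w0⁻¹ * ((x : M) : G) * (w0 * ((d : M) : G) * w0⁻¹)⁻¹ =
        ((x : M) : G) := congrArg (fun z : K' => ((z : M) : G)) h1
    set cd : G := ((d : M) : G)
    set y : G := w0 * ((x : M) : G) * w0⁻¹ with hy
    have hcy : Commute y cd := by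
      have h3 := ((show Commute _ _ from mul_inv_eq_iff_eq_mul.mp h2).map (MulAut.conj w0).toMonoidHom)
      have e : w0 * (w0 * cd * w0⁻¹) * w0⁻¹ = cd := by
        rw [hwi, show w0 * (w0 * cd * w0) * w0 = (w0 * w0) * cd * (w0 * w0) by group, hww, one_mul, mul_one]
      have h4 : Commute cd y := by simpa [MulAut.conj_apply, e, hy] using h3
      exact h4.symm
    have hcK := hker (d : M) (MonoidHom.mem_ker.mp hd)
    set H := Subgroup.centralizer ({cd} : Set G)
    have hKH : K ≤ H := fun k hk => Subgroup.mem_centralizer_singleton_iff.mpr (hcK k hk).symm.eq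
    have hVK : ∀ u ∈ Vs t S, u ∈ K := fun u hu => by
      rcases eq_or_ne u 1 with rfl | hu1
      · exact one_mem _
      · exact c.mem_cls hM (hM.1 hu) (c.conj_of_mem hu hu1)
    have hLK : ∀ u ∈ Vs t S, u ≠ 1 → L u ≤ K := fun u hu hu1 l hl => by
      refine ((Subgroup.closure_le (K := K)).mpr ?_) ((c.hyp_at hu hu1).L_le_W hl)
      rintro _ ⟨g, rfl, hgc⟩
      exact c.mem_cls hM (hC u hu hu1 (Subgroup.mem_centralizer_singleton_iff.mpr hgc))
        ((c.conj_of_mem hu hu1).trans (isConj_iff.mpr ⟨g, rfl⟩))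
    have hKg : Good t S K := ⟨hVK, hLK⟩
    have hHg : Good t S H := ⟨fun u hu => hKH (hVK u hu), fun u hu hu1 => (hLK u hu hu1).trans hKH⟩
    have hHne : H ≠ ⊤ := hne_top _ fun e => hd1 (Subtype.ext (Subtype.ext e))
    have hKne : K ≠ ⊤ := fun e => hne (top_le_iff.mp (e ▸ hKM))
    have hyH : y ∈ H := Subgroup.mem_centralizer_singleton_iff.mpr hcy.eq
    have hyc : IsConj t y := (hclass _ (x : M).2 hj).trans (isConj_iff.mpr ⟨w0, rfl⟩)
    have hyM : y ∈ M := hKM (c.cls_le hKg
      ((c.cls_eq hind hKne hHne hKg hHg hKH).symm ▸ c.mem_cls hHg hyH hyc))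
    exact hw0M (hodd w0 _ (x : M).2 hj hyM)
  have hKr19 : Nat.card Kr ≤ 19 := by
    have hinj : Function.Injective (τ.comp Kr.subtype) := by
      refine (injective_iff_map_eq_one _).mpr fun d hd => Subtype.ext ?_
      obtain ⟨j, hj⟩ : ∃ j : J1G, orderOf j = 2 := ⟨_, elem2_eq⟩
      exact hτ d d.2 j hj (by rw [show τ (d : D0) = 1 from hd]; exact Commute.one_left j)
    rw [Nat.card_congr (MonoidHom.ofInjective hinj).toEquiv]
    refine odd_small ?_ ?_
    · rw [← Nat.card_congr (MonoidHom.ofInjective hinj).toEquiv]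
      exact hDodd.of_dvd_nat (Subgroup.card_subgroup_dvd_card Kr)
    · rintro _ ⟨d, rfl⟩ hne1 j hj hcj
      exact hne1 (by rw [show d = 1 from Subtype.ext (hτ d d.2 j hj hcj), map_one])
  have hmul : Nat.card Kr * Nat.card (D0.map θ) = Nat.card D0 := by
    have h1 := Subgroup.card_mul_index Kr
    rw [hKr, Subgroup.index_ker, MonoidHom.range_comp, Subgroup.range_subtype] at h1
    rw [hKr]
    exact h1
  have := Nat.mul_le_mul hKr19 hP
  have h := hmul ▸ this
  omega

end Sc

end CfsgLib.JOneWeak
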