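import Cfsg.Agent.Lib.JOneWeak.Local

/-!
Weak closure of `V`, fusion in it, and the decomposition `C(V) = R × V`.
-/

set_option autoImplicit false
set_option linter.style.haveILetI false
set_option linter.unusedSectionVars false
set_option synthInstance.maxSize 2000
set_option synthInstance.maxHeartbeats 400000

namespace CfsgLib.JOneWeak

open CfsgLib.JOneOrder CfsgLib.JOneUnique

variable {G : Type*} [Group G] [Finite G]

/-- The normalizer of `V`. -/
def Ns (t : G) (S : Sylow 2 G) : Subgroup G := Subgroup.normalizer (Vs t S : Set G)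

/-- The centralizer of `V`. -/
def Cs (t : G) (S : Sylow 2 G) : Subgroup G := Subgroup.centralizer (Vs t S : Set G)

/-- The subgroup generated by the elements of order three of the various `L v` normalising `V`. -/
def Del (t : G) (S : Sylow 2 G) : Subgroup G :=
  Subgroup.closure {h | ∃ v ∈ Vs t S, v ≠ 1 ∧ h ∈ L v ∧ h ^ 3 = 1 ∧ h ∈ Ns t S}

/-- The complement `R`. -/
def Rs (t : G) (S : Sylow 2 G) : Subgroup G :=
  Cs t S ⊓ Subgroup.centralizer (Del t S : Set G)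

theorem centralizer_klein_c5 : ∀ k : A5, (k = 1 ∨ k = va ∨ k = vb ∨ k = va * vb) →
    k * va * k⁻¹ = va ∧ k * vb * k⁻¹ = vb ∧ k⁻¹ = k := by
  decide +kernel

theorem fun_klein : ∀ k : A5, (k = 1 ∨ k = va ∨ k = vb ∨ k = va * vb) →
    k * (k * c5 * k) * k = c5 := by
  decide +kernel

theorem three_fix : ∀ r k : A5, r * va * r⁻¹ = vb → r * vb * r⁻¹ = va * vb →
    (k = 1 ∨ k = va ∨ k = vb ∨ k = va * vb) → r * k * r⁻¹ = k → k = 1 := by
  decide +kernel

namespace Sc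

variable {t : G} {S : Sylow 2 G} (c : Sc t S)
include c

theorem V_le_W {y : G} (hy : y ∈ Vs t S) (hy1 : y ≠ 1) : Vs t S ≤ W y := by
  intro z hz
  rcases eq_or_ne z 1 with rfl | hz1
  · exact one_mem _
  obtain ⟨k, rfl⟩ := isConj_iff.mp (c.conj_of_mem hz hz1)
  obtain ⟨g, rfl⟩ := isConj_iff.mp (c.conj_of_mem hy hy1)
  exact Subgroup.subset_closure ⟨k * g⁻¹, by group, (c.V_comm hz hy).eq⟩

theorem V_pgroup : IsPGroup 2 (Vs t S) := S.2.to_le inf_le_left

/-- The normalizer of `V` is transitive on its involutions. -/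
theorem transitive {y : G} (hy : y ∈ Vs t S) (hy1 : y ≠ 1) : ∃ n ∈ Ns t S, n * t * n⁻¹ = y := by
  haveI : Fact (Nat.Prime 2) := ⟨Nat.prime_two⟩
  have hVW := c.V_le_W hy hy1
  obtain ⟨g, rfl⟩ := isConj_iff.mp (c.conj_of_mem hy hy1)
  have hg : (Vs t S).map (MulAut.conj g).toMonoidHom ≤ W (g * t * g⁻¹) :=
    W_map t g ▸ Subgroup.map_mono inf_le_right
  have hidx : ¬ 2 ∣ (Vs t S).relIndex (W (g * t * g⁻¹)) := by
    have e1 : Nat.card (Vs t S) * (Vs t S).relIndex (W (g * t * g⁻¹)) =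
        Nat.card (W (g * t * g⁻¹)) := by
      have := Subgroup.card_mul_index ((Vs t S).subgroupOf (W (g * t * g⁻¹)))
      rwa [Nat.card_congr (Subgroup.subgroupOfEquivOfLe hVW).toEquiv] at this
    rw [c.card_V, (c.hyp.conj g).card_W] at e1
    omega
  obtain ⟨w, hw, hle⟩ := Transfer.exists_conj_le_of_not_dvd_relIndex hVW c.V_pgroup hidx
    hg (Transfer.isPGroup_conj_map c.V_pgroup g)
  have heq : (Vs t S).map (MulAut.conj (w * g)).toMonoidHom = Vs t S := by
    refine Subgroup.eq_of_le_of_card_ge ?_ ?_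
    · rintro _ ⟨z, hz, rfl⟩
      have := hle ⟨_, ⟨z, hz, rfl⟩, rfl⟩
      simpa [MulAut.conj_apply, mul_assoc] using this
    · rw [Subgroup.card_map_of_injective (MulAut.conj (w * g)).injective]
  refine ⟨w * g, Transfer.map_conj_eq_self_iff.mp heq, ?_⟩
  rw [show w * g * t * (w * g)⁻¹ = w * (g * t * g⁻¹) * w⁻¹ by group, conj_fix (commute_of_mem_W hw)]

/-- `S` centralises `V`. -/
theorem S_le_Cs : (S : Subgroup G) ≤ Cs t S := by
  haveI : Fact (Nat.Prime 2) := ⟨Nat.prime_two⟩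
  obtain ⟨x, hx⟩ := c.coords
  set h := c.hyp
  have hA : ∀ q ∈ Vs t S, q ∈ L t → ∃ a : A5, (a = 1 ∨ a = va ∨ a = vb ∨ a = va * vb) ∧
      q = h.emb (1, x⁻¹ * a * x) := by
    intro q hq hqL
    obtain ⟨a, ha, hqa | hqa⟩ := (hx q).mp hq
    · exact ⟨a, ha, hqa⟩
    · exfalso
      refine h.t_notMem_L ?_
      have := (L t).mul_mem hqL ((L t).inv_mem (h.emb_mem_L (x⁻¹ * a * x)))
      rwa [hqa, mul_inv_cancel_right] at this
  set A : Subgroup G := (S : Subgroup G) ⊓ L t with hAdef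
  have hAV : A ≤ Vs t S := inf_le_inf_left _ h.L_le_W
  have hAn : ∀ s ∈ (S : Subgroup G), ∀ q ∈ A, s * q * s⁻¹ ∈ A := fun s hs q hq =>
    ⟨(S : Subgroup G).mul_mem ((S : Subgroup G).mul_mem hs hq.1) ((S : Subgroup G).inv_mem hs),
      L_invariant (c.commute_S hs) hq.2⟩
  have hmemA : ∀ a : A5, (a = 1 ∨ a = va ∨ a = vb ∨ a = va * vb) → h.emb (1, x⁻¹ * a * x) ∈ A :=
    fun a ha => ⟨((hx _).mpr ⟨a, ha, Or.inl rfl⟩).1, h.emb_mem_L _⟩
  obtain ⟨-, -, -, k1, k2, k3, k4, k5, k6⟩ := klein_facts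
  have hne : ∀ a b : A5, h.emb (1, x⁻¹ * a * x) = h.emb (1, x⁻¹ * b * x) → a = b := fun a b hab =>
    mul_left_cancel (mul_right_cancel
      (show x⁻¹ * a * x = x⁻¹ * b * x from congrArg Prod.snd (h.emb_injective hab)))
  -- a fixed point
  obtain ⟨a, haA, ha1, hfix⟩ : ∃ a ∈ A, a ≠ 1 ∧ ∀ s ∈ (S : Subgroup G), s * a * s⁻¹ = a := by
    let act : MulAction (S : Subgroup G) A :=
      { smul := fun s q => ⟨(s : G) * q * (s : G)⁻¹, hAn s s.2 q q.2⟩
        one_smul := fun q => Subtype.ext (show ((1 : (S : Subgroup G)) : G) * q * _ = (q : G) by simp)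
        mul_smul := fun s u q => Subtype.ext (show ((s * u : (S : Subgroup G)) : G) * q * _ =
          (s : G) * ((u : G) * q * (u : G)⁻¹) * (s : G)⁻¹ by simp [mul_assoc]) }
    have h2 : 2 ∣ Nat.card A := by
      obtain ⟨a0, ha0⟩ : ∃ a0 : A, a0 ≠ 1 := ⟨⟨_, hmemA va (by simp)⟩, fun e => k1 (hne va 1 (by
        rw [show x⁻¹ * (1 : A5) * x = 1 by group, Prod.mk_one_one, map_one]
        exact congrArg Subtype.val e))⟩
      obtain ⟨k, hk⟩ := IsPGroup.iff_card.mp (c.V_pgroup.to_le hAV)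
      rcases k with _ | k
      · haveI : Subsingleton A := (Nat.card_eq_one_iff_unique.mp (hk.trans (pow_zero 2))).1
        exact absurd (Subsingleton.elim a0 1) ha0
      · exact hk ▸ dvd_pow_self 2 (Nat.succ_ne_zero k)
    obtain ⟨b, hb, hb1⟩ := S.2.exists_fixed_point_of_prime_dvd_card_of_fixed_point A h2
      (a := (1 : A)) (fun s => Subtype.ext (show (s : G) * ((1 : A) : G) * (s : G)⁻¹ = _ by simp))
    exact ⟨b, b.2, fun e => hb1 (Subtype.ext e).symm, fun s hs =>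
      congrArg Subtype.val (hb ⟨s, hs⟩)⟩
  -- everything is fixed
  intro s hs
  refine Subgroup.mem_centralizer_iff.mpr fun v hv => ?_
  have hst := c.commute_S hs
  have hsa : Commute s a := mul_inv_eq_iff_eq_mul.mp (hfix s hs)
  have haV := hAV haA
  have ha2 : a * a = 1 := c.V_sq haV
  obtain ⟨g0, hg0⟩ := isConj_iff.mp (c.conj_of_mem haV ha1)
  have ha : Hyp a := hg0 ▸ h.conj g0
  have hfixA : ∀ q ∈ A, s * q * s⁻¹ = q := by
    intro q hq
    obtain ⟨al, hal, rfl⟩ := hA q (hAV hq) hq.2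
    obtain ⟨aa, haa, rfl⟩ := hA a haV haA.2
    obtain ⟨b, hb, hsq⟩ := hA _ (hAV (hAn s hs _ hq)) (hAn s hs _ hq).2
    by_contra hmove
    have hb1 : b ≠ al := fun e => hmove (by rw [hsq, e])
    have hbne : b ≠ 1 := fun e => by
      subst e
      apply hb1
      apply hne
      rw [show x⁻¹ * (1 : A5) * x = 1 by group, Prod.mk_one_one, map_one] at hsq ⊢
      exact (conj_eq_one_iff.mp hsq).symm
    have hal1 : al ≠ 1 := fun e => by
      subst e
      apply hmove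
      rw [show x⁻¹ * (1 : A5) * x = 1 by group, Prod.mk_one_one, map_one]; group
    have haa1 : aa ≠ 1 := fun e => by
      subst e
      apply ha1
      rw [show x⁻¹ * (1 : A5) * x = 1 by group, Prod.mk_one_one, map_one]
    have hala : al ≠ aa := fun e => by subst e; exact hmove (hfix s hs)
    have hbaa : b ≠ aa := fun e => by
      subst e
      apply hala
      apply hne
      rw [← hfix s hs] at hsq
      exact mul_left_cancel (mul_right_cancel hsq)
    have hbeq : b = al * aa :=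
      klein_third hal haa hb hal1 haa1 hbne hala (Ne.symm hb1) (Ne.symm hbaa)
    set a' := h.emb (1, x⁻¹ * aa * x)
    set q' := h.emb (1, x⁻¹ * al * x)
    have hsq' : s * q' * s⁻¹ = q' * a' := by
      rw [hsq, hbeq, ← map_mul, Prod.mk_mul_mk, one_mul]
      congr 2
      group
    have hqV : q' ∈ Vs t S := hAV hq
    rcases ha.mem_W_sup (c.V_le_W haV ha1 hqV) with hp | hp
    · have h1 := L_invariant hsa hp
      rw [hsq'] at h1
      refine ha.t_notMem_L ?_
      have := (L a').mul_mem ((L a').inv_mem hp) h1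
      rwa [inv_mul_cancel_left] at this
    · have h1 := L_invariant hsa hp
      rw [show s * (a' * q') * s⁻¹ = (s * a' * s⁻¹) * (s * q' * s⁻¹) by group, hfix s hs, hsq',
        ← mul_assoc] at h1
      refine ha.t_notMem_L ?_
      have := (L a').mul_mem ((L a').inv_mem hp) h1
      rwa [inv_mul_cancel_left] at this
  rcases c.mem_or_mul_mem hv with hvL | hvL
  · exact (mul_inv_eq_iff_eq_mul.mp (hfixA v ⟨hv.1, hvL⟩)).symm
  · have h1 : Commute s (t * v) :=
      mul_inv_eq_iff_eq_mul.mp (hfixA _ ⟨(S : Subgroup G).mul_mem c.mem hv.1, hvL⟩)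
    have := hst.mul_right h1
    rw [← mul_assoc, h.t_sq, one_mul] at this
    exact this.symm.eq

theorem two_sub {P : Subgroup G} (hP : IsPGroup 2 P) (hVP : Vs t S ≤ P) :
    P ≤ Cs t S ∧ ∀ y ∈ P, IsConj t y → y ∈ Vs t S := by
  haveI : Fact (Nat.Prime 2) := ⟨Nat.prime_two⟩
  obtain ⟨g, hg⟩ := Transfer.exists_map_conj_le_sylow hP S
  have hgV : (Vs t S).map (MulAut.conj g).toMonoidHom = Vs t S := by
    refine Subgroup.eq_of_le_of_card_ge ?_
      (le_of_eq (Subgroup.card_map_of_injective (MulAut.conj g).injective).symm)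
    rintro _ ⟨z, hz, rfl⟩
    have hS' := hg ⟨z, hVP hz, rfl⟩
    rcases eq_or_ne z 1 with rfl | hz1
    · simp
    exact c.mem_V_of_conj ((c.conj_of_mem hz hz1).trans (isConj_iff.mpr ⟨g, rfl⟩)) hS'
  have hgN : g ∈ Subgroup.normalizer (Vs t S : Set G) := Transfer.map_conj_eq_self_iff.mp hgV
  refine ⟨fun p hp => ?_, fun y hy hc => ?_⟩
  · refine Subgroup.mem_centralizer_iff.mpr fun v hv => ?_
    have h1 := Subgroup.mem_centralizer_iff.mp (c.S_le_Cs (hg ⟨p, hp, rfl⟩)) _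
      ((Subgroup.mem_normalizer_iff.mp hgN v).mp hv)
    apply (MulAut.conj g).injective
    simpa [MulAut.conj_apply, map_mul] using h1
  · exact (Subgroup.mem_normalizer_iff.mp hgN y).mpr
      (c.mem_V_of_conj (hc.trans (isConj_iff.mpr ⟨g, rfl⟩)) (hg ⟨y, hy, rfl⟩))

theorem Ns_conj {n v : G} (hn : n ∈ Ns t S) (hv : v ∈ Vs t S) : n * v * n⁻¹ ∈ Vs t S :=
  (Subgroup.mem_normalizer_iff.mp hn v).mp hv

theorem Cs_le_Ns : Cs t S ≤ Ns t S := fun z hz => by
  refine Subgroup.mem_normalizer_iff.mpr fun v => ⟨fun hv => ?_, fun hv => ?_⟩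
  · rw [← (Subgroup.mem_centralizer_iff.mp hz v hv), mul_inv_cancel_right]
    exact hv
  · have := Subgroup.mem_centralizer_iff.mp hz _ hv
    have e : v = z * v * z⁻¹ := by
      apply mul_left_cancel (a := z)
      calc z * v = z * v * z⁻¹ * z := by group
        _ = z * (z * v * z⁻¹) := this
    rw [e]; exact hv

theorem Cs_invariant {n z : G} (hn : n ∈ Ns t S) (hz : z ∈ Cs t S) : n * z * n⁻¹ ∈ Cs t S := by
  refine Subgroup.mem_centralizer_iff.mpr fun v hv => ?_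
  have h1 := Subgroup.mem_centralizer_iff.mp hz _ (c.Ns_conj ((Ns t S).inv_mem hn) hv)
  rw [inv_inv] at h1
  calc v * (n * z * n⁻¹) = n * (n⁻¹ * v * n * z) * n⁻¹ := by group
    _ = n * (z * (n⁻¹ * v * n)) * n⁻¹ := by rw [h1]
    _ = n * z * n⁻¹ * v := by group

/-- Decomposition of `C(V)` at `t`. -/
theorem Cs_decomp_t {z : G} (hz : z ∈ Cs t S) : ∃ a ∈ Vs t S, a ∈ L t ∧ z * a ∈ D t := by
  obtain ⟨x, hx⟩ := c.coords
  set h := c.hyp
  have hzt : Commute z t := (Subgroup.mem_centralizer_iff.mp hz t c.t_mem_V).symm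
  have hzA : ∀ a, (a = 1 ∨ a = va ∨ a = vb ∨ a = va * vb) → Commute z (h.emb (1, x⁻¹ * a * x)) :=
    fun a ha => (Subgroup.mem_centralizer_iff.mp hz _ ((hx _).mpr ⟨a, ha, Or.inl rfl⟩)).symm
  obtain ⟨w, hw⟩ := h.mem_L_iff.mp (L_invariant hzt (h.emb_mem_L (x⁻¹ * c5 * x)))
  set y : A5 := x * w * x⁻¹ with hy
  have hwy : w = x⁻¹ * y * x := by rw [hy]; group
  obtain ⟨f, hf⟩ : ∃ f : G →* G, ∀ g, f g = z * g * z⁻¹ := ⟨(MulAut.conj z).toMonoidHom, fun g => rfl⟩
  obtain ⟨ι, hι⟩ : ∃ ι : A5 →* G, ∀ a, ι a = h.emb (1, x⁻¹ * a * x) :=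
    ⟨h.emb.comp ((MonoidHom.inr Z2 A5).comp (MulAut.conj x⁻¹).toMonoidHom), fun a => by simp⟩
  have hιinj : Function.Injective ι := fun a b e => by
    rw [hι, hι] at e
    exact mul_left_cancel (mul_right_cancel
      (show x⁻¹ * a * x = x⁻¹ * b * x from congrArg Prod.snd (h.emb_injective e)))
  have hfc : f (ι c5) = ι y := by rw [hι, hι, ← hwy, hw, hf]
  have hfk : ∀ a, (a = 1 ∨ a = va ∨ a = vb ∨ a = va * vb) → f (ι a) = ι a := fun a ha => by
    rw [hf, hι]; exact conj_fix (hzA a ha)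
  have hfinj : Function.Injective f := fun a b e => by
    rw [hf, hf] at e
    exact mul_left_cancel (mul_right_cancel e)
  obtain ⟨r1, r2, r3, r4⟩ := c5_rel
  have hy' := c5_orbit y
    (hιinj (by rw [map_pow, ← hfc, ← map_pow, ← map_pow, r1, map_one, map_one]))
    (fun e => r2 (hιinj (hfinj (by rw [hfc, e, map_one, map_one]))))
    (hιinj (by rw [map_pow, map_mul, ← hfc, ← hfk va (by simp), ← map_mul, ← map_mul, ← map_pow,
      ← map_pow, r3, map_one, map_one]))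
    (hιinj (by rw [map_pow, map_mul, ← hfc, ← hfk (va * vb) (by simp), ← map_mul, ← map_mul, ← map_pow,
      ← map_pow, r4, map_one, map_one]))
  obtain ⟨k, hk, hky⟩ : ∃ k : A5, (k = 1 ∨ k = va ∨ k = vb ∨ k = va * vb) ∧ y = k * c5 * k := by
    rcases hy' with e | e | e | e
    · exact ⟨1, Or.inl rfl, by rw [e]; simp⟩
    · exact ⟨va, by simp, e⟩
    · exact ⟨vb, by simp, e⟩
    · exact ⟨va * vb, by simp, e⟩
  have hkV : ι k ∈ Vs t S := (hx _).mpr ⟨k, hk, Or.inl (hι k)⟩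
  have hkL : ι k ∈ L t := hι k ▸ h.emb_mem_L _
  refine ⟨ι k, hkV, hkL, ?_⟩
  have hconj : ∀ a, z * ι k * ι a * (z * ι k)⁻¹ = f (ι (k * a * k⁻¹)) := fun a => by
    rw [hf, map_mul, map_mul, map_inv]
    group
  obtain ⟨e1, e2, e3⟩ := centralizer_klein_c5 k hk
  have hfix : ∀ a, (a = va ∨ a = vb ∨ a = c5) → Commute (z * ι k) (ι a) := by
    intro a ha
    refine mul_inv_eq_iff_eq_mul.mp ((hconj a).trans ?_)
    rcases ha with rfl | rfl | rfl
    · rw [e1, hfk va (by simp)]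
    · rw [e2, hfk vb (by simp)]
    · rw [map_mul, map_mul, map_mul, map_mul, hfk k hk, map_inv, map_inv, hfk k hk, hfc, hky,
        ← map_inv, e3, ← map_mul, ← map_mul]
      exact congrArg ι (fun_klein k hk)
  have hkt : Commute (ι k) t := commute_of_mem_W (hι k ▸ h.emb_mem _)
  refine h.mem_D (hzt.mul_left hkt) fun l hl => ?_
  obtain ⟨b, rfl⟩ := h.mem_L_iff.mp hl
  have hb : h.emb (1, b) = ι (x * b * x⁻¹) := by
    rw [hι]
    exact congrArg (fun w : A5 => h.emb (1, w)) (show b = x⁻¹ * (x * b * x⁻¹) * x by group)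
  rw [hb]
  obtain ⟨i, j, hij⟩ := word (x * b * x⁻¹)
  have hc : Commute (z * ι k) (ι c5) := hfix _ (by simp)
  have hva : Commute (z * ι k) (ι va) := hfix _ (by simp)
  have hvb : Commute (z * ι k) (ι vb) := hfix _ (by simp)
  rcases hij with e | e | e | e <;> rw [e] <;> simp only [map_mul, map_pow]
  · exact (hc.pow_right _).mul_right (hc.pow_right _)
  · exact ((hc.pow_right _).mul_right hva).mul_right (hc.pow_right _)
  · exact ((hc.pow_right _).mul_right hvb).mul_right (hc.pow_right _)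
  · exact ((hc.pow_right _).mul_right (hva.mul_right hvb)).mul_right (hc.pow_right _)

/-- Decomposition of `C(V)` at any involution of `V`. -/
theorem Cs_decomp {z v : G} (hz : z ∈ Cs t S) (hv : v ∈ Vs t S) (hv1 : v ≠ 1) :
    ∃ a ∈ Vs t S, a ∈ L v ∧ z * a ∈ D v := by
  obtain ⟨n, hn, rfl⟩ := c.transitive hv hv1
  obtain ⟨a, ha, haL, haD⟩ := c.Cs_decomp_t (by
    simpa [mul_assoc] using c.Cs_invariant ((Ns t S).inv_mem hn) hz)
  refine ⟨n * a * n⁻¹, c.Ns_conj hn ha, L_conj haL, ?_⟩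
  rw [D, Subgroup.mem_centralizer_iff]
  intro y hy
  have hy' : n⁻¹ * y * n ∈ W t := mem_of_conj_map (W_map t n ▸ hy)
  have h1 := congrArg (MulAut.conj n) (Subgroup.mem_centralizer_iff.mp haD _ hy')
  simpa [MulAut.conj_apply, map_mul, mul_assoc] using h1

theorem Del_le_Ns : Del t S ≤ Ns t S :=
  (Subgroup.closure_le _).mpr fun _ ⟨_, _, _, _, _, hN⟩ => hN

theorem D_le_Cs {v : G} (hv : v ∈ Vs t S) (hv1 : v ≠ 1) : D v ≤ Cs t S :=
  fun _ hd => Subgroup.mem_centralizer_iff.mpr fun u hu =>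
    Subgroup.mem_centralizer_iff.mp hd u (c.V_le_W hv hv1 hu)

/-- An element of order three at `t`. -/
theorem exists_three : ∃ h ∈ Del t S, h ∈ L t ∧ h ^ 3 = 1 ∧ h * t * h⁻¹ = t ∧
    (∀ a ∈ Vs t S, a ∈ L t → h * a * h⁻¹ = a → a = 1) := by
  obtain ⟨x, hx⟩ := c.coords
  obtain ⟨-, r, hr0, hr1, hr2⟩ := three_gen
  set hh := c.hyp
  set H : G := hh.emb (1, x⁻¹ * r * x) with hH
  have hconj : ∀ a b, r * a * r⁻¹ = b →
      H * hh.emb (1, x⁻¹ * a * x) * H⁻¹ = hh.emb (1, x⁻¹ * b * x) := by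
    intro a b hab
    rw [hH, ← map_inv, ← map_mul, ← map_mul]
    congr 1
    refine Prod.ext (by simp) ?_
    show x⁻¹ * r * x * (x⁻¹ * a * x) * (x⁻¹ * r * x)⁻¹ = x⁻¹ * b * x
    rw [← hab]; group
  have hHt : H * t * H⁻¹ = t := conj_fix (commute_of_mem_W (hh.emb_mem _))
  have hr3 : ∀ a, (a = 1 ∨ a = va ∨ a = vb ∨ a = va * vb) →
      (r * a * r⁻¹ = 1 ∨ r * a * r⁻¹ = va ∨ r * a * r⁻¹ = vb ∨ r * a * r⁻¹ = va * vb) :=
    (show ∀ r : A5, r * va * r⁻¹ = vb → r * vb * r⁻¹ = va * vb → ∀ a : A5,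
      (a = 1 ∨ a = va ∨ a = vb ∨ a = va * vb) →
      (r * a * r⁻¹ = 1 ∨ r * a * r⁻¹ = va ∨ r * a * r⁻¹ = vb ∨ r * a * r⁻¹ = va * vb)
      by decide +kernel) r hr1 hr2
  have hN : H ∈ Ns t S := by
    refine Transfer.map_conj_eq_self_iff.mp (Subgroup.eq_of_le_of_card_ge ?_
      (le_of_eq (Subgroup.card_map_of_injective (MulAut.conj H).injective).symm))
    rintro _ ⟨q, hq, rfl⟩
    obtain ⟨a, ha, hqa⟩ := (hx q).mp hq
    refine (hx _).mpr ⟨_, hr3 a ha, ?_⟩
    show H * q * H⁻¹ = _ ∨ H * q * H⁻¹ = _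
    rcases hqa with rfl | rfl
    · exact Or.inl (hconj a _ rfl)
    · right
      rw [show H * (t * hh.emb (1, x⁻¹ * a * x)) * H⁻¹ =
        H * t * H⁻¹ * (H * hh.emb (1, x⁻¹ * a * x) * H⁻¹) by group, hHt, hconj a _ rfl]
  have h3 : H ^ 3 = 1 := by
    rw [hH, ← map_pow]
    convert map_one hh.emb
    refine Prod.ext (one_pow _) ?_
    show (x⁻¹ * r * x) ^ 3 = 1
    rw [pow_three, show x⁻¹ * r * x * (x⁻¹ * r * x * (x⁻¹ * r * x)) = x⁻¹ * (r * (r * r)) * x by group,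
      ← pow_three, hr0]
    group
  refine ⟨H, Subgroup.subset_closure ⟨t, c.t_mem_V, hh.t_ne, hh.emb_mem_L _, h3, hN⟩, hh.emb_mem_L _, h3, hHt, ?_⟩
  intro q hq hqL hfix
  obtain ⟨a, ha, hqa | hqa⟩ := (hx q).mp hq
  · subst hqa
    rw [hconj a _ rfl] at hfix
    have e := congrArg Prod.snd (hh.emb_injective hfix)
    obtain rfl := three_fix r a hr1 hr2 ha
      (mul_left_cancel (mul_right_cancel (show x⁻¹ * (r * a * r⁻¹) * x = x⁻¹ * a * x from e)))
    rw [show x⁻¹ * (1 : A5) * x = 1 by group, Prod.mk_one_one, map_one]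
  · exfalso
    refine hh.t_notMem_L ?_
    have := (L t).mul_mem hqL ((L t).inv_mem (hh.emb_mem_L (x⁻¹ * a * x)))
    rwa [hqa, mul_inv_cancel_right] at this

theorem Del_invariant {n d : G} (hn : n ∈ Ns t S) (hd : d ∈ Del t S) : n * d * n⁻¹ ∈ Del t S := by
  have : (Del t S).map (MulAut.conj n).toMonoidHom ≤ Del t S := by
    rw [Del, MonoidHom.map_closure]
    refine Subgroup.closure_mono ?_
    rintro _ ⟨h, ⟨v, hv, hv1, hL, h3, hN⟩, rfl⟩
    refine ⟨n * v * n⁻¹, c.Ns_conj hn hv, fun e => hv1 (conj_eq_one_iff.mp e), L_conj hL, ?_, ?_⟩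
    · rw [← map_pow, h3, map_one]
    · exact (Ns t S).mul_mem ((Ns t S).mul_mem hn hN) ((Ns t S).inv_mem hn)
  exact this ⟨d, hd, rfl⟩

/-- `Δ` is transitive on the involutions of `V`. -/
theorem Del_transitive {y : G} (hy : y ∈ Vs t S) (hy1 : y ≠ 1) : ∃ d ∈ Del t S, d * t * d⁻¹ = y := by
  classical
  let O : G → Set G := fun z => {w | ∃ d ∈ Del t S, d * z * d⁻¹ = w}
  have hOsub : ∀ z ∈ Vs t S, z ≠ 1 → O z ⊆ {w | w ∈ Vs t S ∧ w ≠ 1} := by
    rintro z hz hz1 _ ⟨d, hd, rfl⟩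
    exact ⟨c.Ns_conj (c.Del_le_Ns hd) hz, fun e => hz1 (conj_eq_one_iff.mp e)⟩
  have hcard7 : Set.ncard {w : G | w ∈ Vs t S ∧ w ≠ 1} = 7 := by
    have e : {w : G | w ∈ Vs t S ∧ w ≠ 1} = (Vs t S : Set G) \ {1} := rfl
    rw [e, Set.ncard_diff_singleton_of_mem (one_mem (Vs t S))]
    show Set.ncard (Vs t S : Set G) - 1 = 7
    rw [← Nat.card_coe_set_eq]
    show Nat.card (Vs t S) - 1 = 7
    rw [c.card_V]
  have hequiv : ∀ n ∈ Ns t S, ∀ z, (fun w => n * w * n⁻¹) '' O z ⊆ O (n * z * n⁻¹) := by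
    rintro n hn z _ ⟨_, ⟨d, hd, rfl⟩, rfl⟩
    exact ⟨n * d * n⁻¹, c.Del_invariant hn hd, by group⟩
  -- the orbit of `t` has at least four elements
  obtain ⟨H, hH, -, hH3, hHt, hHfix⟩ := c.exists_three
  have hthree : ∀ z ∈ Vs t S, z ≠ 1 → z ≠ t → 3 ≤ (O z).ncard ∧ H * z * H⁻¹ ≠ z := by
    intro z hz hz1 hzt
    have hmove : H * z * H⁻¹ ≠ z := by
      intro e
      rcases c.mem_or_mul_mem hz with hL | hL
      · exact hz1 (hHfix z hz hL e)
      · have e' : H * (t * z) * H⁻¹ = t * z := by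
          rw [show H * (t * z) * H⁻¹ = H * t * H⁻¹ * (H * z * H⁻¹) by group, hHt, e]
        have := hHfix _ ((Vs t S).mul_mem c.t_mem_V hz) hL e'
        exact hzt (by
          calc z = t * (t * z) := by rw [← mul_assoc, c.hyp.t_sq, one_mul]
            _ = t := by rw [this, mul_one])
    have hmove2 : H * H * z * (H * H)⁻¹ ≠ z := by
      intro e
      rcases c.mem_or_mul_mem hz with hL | hL
      · have hz' : H * z * H⁻¹ ∈ L t := L_invariant (mul_inv_eq_iff_eq_mul.mp hHt) hL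
        have hzV := c.Ns_conj (c.Del_le_Ns hH) hz
        have hq := (Vs t S).mul_mem hz hzV
        have := hHfix _ hq ((L t).mul_mem hL hz') (by
          calc H * (z * (H * z * H⁻¹)) * H⁻¹ = (H * z * H⁻¹) * (H * H * z * (H * H)⁻¹) := by group
            _ = z * (H * z * H⁻¹) := by rw [e]; exact (c.V_comm hzV hz).eq)
        exact hmove ((eq_inv_of_mul_eq_one_right this).trans (inv_eq_of_mul_eq_one_right (c.V_sq hz)))
      · have htz : t * z ∈ Vs t S := (Vs t S).mul_mem c.t_mem_V hz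
        have hz' : H * (t * z) * H⁻¹ ∈ L t := L_invariant (mul_inv_eq_iff_eq_mul.mp hHt) hL
        have hzV := c.Ns_conj (c.Del_le_Ns hH) htz
        have hq := (Vs t S).mul_mem htz hzV
        have e2 : H * H * (t * z) * (H * H)⁻¹ = t * z := by
          calc H * H * (t * z) * (H * H)⁻¹ = H * (H * t * H⁻¹) * H⁻¹ * (H * H * z * (H * H)⁻¹) := by group
            _ = t * z := by rw [hHt, hHt, e]
        have := hHfix _ hq ((L t).mul_mem hL hz') (by
          calc H * (t * z * (H * (t * z) * H⁻¹)) * H⁻¹ =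
              (H * (t * z) * H⁻¹) * (H * H * (t * z) * (H * H)⁻¹) := by group
            _ = t * z * (H * (t * z) * H⁻¹) := by rw [e2]; exact (c.V_comm hzV htz).eq)
        have e3 : H * (t * z) * H⁻¹ = t * z :=
          (eq_inv_of_mul_eq_one_right this).trans (inv_eq_of_mul_eq_one_right (c.V_sq htz))
        apply hmove
        calc H * z * H⁻¹ = (H * t * H⁻¹)⁻¹ * (H * (t * z) * H⁻¹) := by group
          _ = z := by rw [hHt, e3, inv_mul_cancel_left]
    refine ⟨?_, hmove⟩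
    have hsub : ({z, H * z * H⁻¹, H * H * z * (H * H)⁻¹} : Set G) ⊆ O z := by
      rintro w (rfl | rfl | rfl)
      · exact ⟨1, one_mem _, by group⟩
      · exact ⟨H, hH, rfl⟩
      · exact ⟨H * H, mul_mem hH hH, rfl⟩
    refine le_trans (le_of_eq ?_) (Set.ncard_le_ncard hsub)
    rw [Set.ncard_insert_of_notMem, Set.ncard_pair]
    · intro e
      apply hmove
      have : H * z * H⁻¹ = H * (H * z * H⁻¹) * H⁻¹ := e.trans (by group)
      exact (mul_left_cancel (mul_right_cancel this)).symm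
    · simp only [Set.mem_insert_iff, Set.mem_singleton_iff, not_or]
      exact ⟨Ne.symm hmove, Ne.symm hmove2⟩
  have hOt : 4 ≤ (O t).ncard := by
    obtain ⟨y0, hy0, hy0t⟩ : ∃ y0 ∈ O t, y0 ≠ t := by
      by_contra hcon
      push Not at hcon
      obtain ⟨a, ha, hat⟩ : ∃ a ∈ {w : G | w ∈ Vs t S ∧ w ≠ 1}, a ≠ t :=
        Set.exists_ne_of_one_lt_ncard (by omega) t
      obtain ⟨n, hn, rfl⟩ := c.transitive ha.1 ha.2
      refine (hthree _ ha.1 ha.2 hat).2 ?_
      have hd := c.Del_invariant ((Ns t S).inv_mem hn) hH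
      have := hcon _ ⟨_, hd, rfl⟩
      rw [inv_inv] at this
      calc H * (n * t * n⁻¹) * H⁻¹ = n * (n⁻¹ * H * n * t * (n⁻¹ * H * n)⁻¹) * n⁻¹ := by group
        _ = n * t * n⁻¹ := by rw [this]
    obtain ⟨hy0V, hy01⟩ := hOsub t c.t_mem_V c.hyp.t_ne hy0
    have hsub : insert t (O y0 \ {t}) ⊆ O t := by
      rintro w (rfl | ⟨⟨d, hd, rfl⟩, -⟩)
      · exact ⟨1, one_mem _, by group⟩
      · obtain ⟨e0, he0, rfl⟩ := hy0
        exact ⟨d * e0, mul_mem hd he0, by group⟩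
    have h3 : ({y0, H * y0 * H⁻¹, H * H * y0 * (H * H)⁻¹} : Set G) ⊆ O y0 \ {t} := by
      have hno : ∀ d, d * t * d⁻¹ = t → d * y0 * d⁻¹ ≠ t := fun d hd e =>
        hy0t (mul_left_cancel (mul_right_cancel (e.trans hd.symm)))
      rintro w (rfl | rfl | rfl)
      · exact ⟨⟨1, one_mem _, by group⟩, hy0t⟩
      · exact ⟨⟨H, hH, rfl⟩, hno H hHt⟩
      · refine ⟨⟨H * H, mul_mem hH hH, rfl⟩, hno _ ?_⟩
        rw [show H * H * t * (H * H)⁻¹ = H * (H * t * H⁻¹) * H⁻¹ by group, hHt, hHt]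
    have hc3 : 3 ≤ (O y0 \ {t}).ncard := by
      by_cases ht0 : t ∈ O y0
      · refine le_trans (le_of_eq ?_) (Set.ncard_le_ncard h3)
        obtain ⟨-, hm⟩ := hthree y0 hy0V hy01 hy0t
        have hm2 : y0 ≠ H * H * y0 * (H * H)⁻¹ := by
          intro e
          apply hm
          calc H * y0 * H⁻¹ = H * (H * H * y0 * (H * H)⁻¹) * H⁻¹ := by rw [← e]
            _ = H ^ 3 * y0 * (H ^ 3)⁻¹ := by rw [pow_three]; group
            _ = y0 := by rw [hH3, one_mul, inv_one, mul_one]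
        rw [Set.ncard_insert_of_notMem, Set.ncard_pair]
        · intro e
          apply hm
          have : H * y0 * H⁻¹ = H * (H * y0 * H⁻¹) * H⁻¹ := e.trans (by group)
          exact (mul_left_cancel (mul_right_cancel this)).symm
        · simp only [Set.mem_insert_iff, Set.mem_singleton_iff, not_or]
          exact ⟨Ne.symm hm, hm2⟩
      · rw [Set.diff_singleton_eq_self ht0]
        exact (hthree y0 hy0V hy01 hy0t).1
    have := Set.ncard_le_ncard hsub
    rw [Set.ncard_insert_of_notMem (fun hh => hh.2 rfl)] at this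
    omega
  -- two orbits of size four cannot be disjoint
  obtain ⟨n, hn, rfl⟩ := c.transitive hy hy1
  have hOy : 4 ≤ (O (n * t * n⁻¹)).ncard := by
    refine hOt.trans ?_
    rw [← Set.ncard_image_of_injective (O t) (f := fun w => n * w * n⁻¹) (fun a b e =>
      mul_left_cancel (mul_right_cancel e))]
    exact Set.ncard_le_ncard (hequiv n hn t)
  obtain ⟨w, ⟨d1, hd1, hw1⟩, ⟨d2, hd2, hw2⟩⟩ : ∃ w, w ∈ O t ∧ w ∈ O (n * t * n⁻¹) := by
    by_contra hcon
    push Not at hcon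
    have hdis : Disjoint (O t) (O (n * t * n⁻¹)) := Set.disjoint_left.mpr hcon
    have h8 := Set.ncard_le_ncard
      (Set.union_subset (hOsub t c.t_mem_V c.hyp.t_ne) (hOsub _ hy hy1))
    rw [Set.ncard_union_eq hdis, hcard7] at h8
    omega
  refine ⟨d2⁻¹ * d1, mul_mem (inv_mem hd2) hd1, ?_⟩
  rw [show d2⁻¹ * d1 * t * (d2⁻¹ * d1)⁻¹ = d2⁻¹ * (d1 * t * d1⁻¹) * d2 by group, hw1, ← hw2]
  group

end Sc

end CfsgLib.JOneWeak
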